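import Mathlib
import Cfsg.Agent.BlockThms.DefectCor
import Cfsg.Agent.BlockChar.Support

/-!
In the defining characteristic every block of SL_n has defect zero or full defect.
-/

set_option autoImplicit false

namespace Cfsg.Agent.SLSteinberg

open Matrix
open Cfsg.Agent Cfsg.Agent.Blocks

universe u

variable {n : ℕ} {F : Type u} [Field F]

/-- The underlying matrix. -/
local notation:max "⇈" A:max => ((A : SpecialLinearGroup (Fin n) F) : Matrix (Fin n) (Fin n) F)

theorem mulVec_mul' (A B : SpecialLinearGroup (Fin n) F) (v : Fin n → F) :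
    ⇈(A * B) *ᵥ v = ⇈A *ᵥ (⇈B *ᵥ v) := by
  rw [Matrix.mulVec_mulVec]; rfl

theorem inv_mulVec (A : SpecialLinearGroup (Fin n) F) (v : Fin n → F) :
    ⇈(A⁻¹) *ᵥ (⇈A *ᵥ v) = v := by
  rw [← mulVec_mul', inv_mul_cancel]; exact Matrix.one_mulVec v

theorem mulVec_inv (A : SpecialLinearGroup (Fin n) F) (v : Fin n → F) :
    ⇈A *ᵥ (⇈(A⁻¹) *ᵥ v) = v := by
  rw [← mulVec_mul', mul_inv_cancel]; exact Matrix.one_mulVec v

/-- The span of the displacements of a subgroup on a submodule. -/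
def disp (D : Subgroup (SpecialLinearGroup (Fin n) F)) (S : Submodule F (Fin n → F)) :
    Submodule F (Fin n → F) :=
  Submodule.span F {w | ∃ d ∈ D, ∃ v ∈ S, w = ⇈d *ᵥ v - v}

theorem disp_mem {D : Subgroup (SpecialLinearGroup (Fin n) F)} {S : Submodule F (Fin n → F)}
    {d : SpecialLinearGroup (Fin n) F} (hd : d ∈ D) {v : Fin n → F} (hv : v ∈ S) :
    ⇈d *ᵥ v - v ∈ disp D S := Submodule.subset_span ⟨d, hd, v, hv, rfl⟩

theorem disp_invariant {D : Subgroup (SpecialLinearGroup (Fin n) F)} {S : Submodule F (Fin n → F)}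
    {g : SpecialLinearGroup (Fin n) F} (hg : g ∈ Subgroup.normalizer (D : Set _))
    (hS : ∀ v ∈ S, ⇈g *ᵥ v ∈ S) {w : Fin n → F} (hw : w ∈ disp D S) : ⇈g *ᵥ w ∈ disp D S := by
  induction hw using Submodule.span_induction with
  | mem w hw =>
    obtain ⟨d, hd, v, hv, rfl⟩ := hw
    have hd' : g * d * g⁻¹ ∈ D := (Subgroup.mem_set_normalizer_iff.1 hg d).1 hd
    have e : ⇈g *ᵥ (⇈d *ᵥ v - v) = ⇈(g * d * g⁻¹) *ᵥ (⇈g *ᵥ v) - ⇈g *ᵥ v := by
      rw [Matrix.mulVec_sub, mulVec_mul', inv_mulVec, mulVec_mul']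
    rw [e]
    exact disp_mem hd' (hS v hv)
  | zero => rw [Matrix.mulVec_zero]; exact zero_mem _
  | add a b _ _ iha ihb => rw [Matrix.mulVec_add]; exact add_mem iha ihb
  | smul c a _ iha => rw [Matrix.mulVec_smul]; exact Submodule.smul_mem _ _ iha

theorem disp_le {D : Subgroup (SpecialLinearGroup (Fin n) F)} {S : Submodule F (Fin n → F)}
    (hS : ∀ d ∈ D, ∀ v ∈ S, ⇈d *ᵥ v ∈ S) : disp D S ≤ S :=
  Submodule.span_le.2 (by
    rintro _ ⟨d, hd, v, hv, rfl⟩
    exact sub_mem (hS d hd v hv) hv)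

/-- The fixed vectors of a subgroup. -/
def fixedSpace (D : Subgroup (SpecialLinearGroup (Fin n) F)) : Submodule F (Fin n → F) where
  carrier := {v | ∀ d ∈ D, ⇈d *ᵥ v = v}
  add_mem' ha hb d hd := by rw [Matrix.mulVec_add, ha d hd, hb d hd]
  zero_mem' _ _ := Matrix.mulVec_zero _
  smul_mem' c _ ha d hd := by rw [Matrix.mulVec_smul, ha d hd]

/-- The maps moving everything into `T` and fixing `I`. -/
def transv (I T : Submodule F (Fin n → F)) (hTI : T ≤ I) : Subgroup (SpecialLinearGroup (Fin n) F) where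
  carrier := {A | (∀ v, ⇈A *ᵥ v - v ∈ T) ∧ ∀ v ∈ I, ⇈A *ᵥ v = v}
  one_mem' := ⟨fun v => by simp, fun v _ => Matrix.one_mulVec v⟩
  mul_mem' {A B} hA hB := ⟨fun v => by
      have h := hA.2 _ (hTI (hB.1 v))
      rw [Matrix.mulVec_sub, ← mulVec_mul'] at h
      have : ⇈(A * B) *ᵥ v - v = (⇈B *ᵥ v - v) + (⇈A *ᵥ v - v) := by rw [← h]; abel
      rw [this]
      exact add_mem (hB.1 v) (hA.1 v),
    fun v hv => by rw [mulVec_mul', hB.2 v hv, hA.2 v hv]⟩
  inv_mem' {A} hA := ⟨fun v => by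
      have h := neg_mem (hA.1 (⇈(A⁻¹) *ᵥ v))
      rw [mulVec_inv, neg_sub] at h
      exact h,
    fun v hv => by conv_lhs => rw [← hA.2 v hv, inv_mulVec]⟩

theorem mem_transv {I T : Submodule F (Fin n → F)} {hTI : T ≤ I} {A : SpecialLinearGroup (Fin n) F} :
    A ∈ transv I T hTI ↔ (∀ v, ⇈A *ᵥ v - v ∈ T) ∧ ∀ v ∈ I, ⇈A *ᵥ v = v := Iff.rfl

variable [Fintype F] {p : ℕ} [Fact p.Prime] [CharP F p]

omit [Fintype F] in
theorem isPGroup_transv (I T : Submodule F (Fin n → F)) (hTI : T ≤ I) :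
    IsPGroup p (transv I T hTI) := by
  rintro ⟨A, hA⟩
  refine ⟨1, Subtype.ext (Subtype.ext (Matrix.ext_of_mulVec_single fun j => ?_))⟩
  set v : Fin n → F := Pi.single j 1
  have h : ∀ m : ℕ, ⇈(A ^ m) *ᵥ v = v + (m : F) • (⇈A *ᵥ v - v) := by
    intro m
    induction m with
    | zero => simp
    | succ m ih =>
      rw [pow_succ', mulVec_mul', ih, Matrix.mulVec_add, Matrix.mulVec_smul, hA.2 _ (hTI (hA.1 v))]
      push_cast
      rw [add_smul, one_smul]
      abel
  have h1 := h p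
  rw [CharP.cast_eq_zero, zero_smul, add_zero] at h1
  rw [pow_one, SubgroupClass.coe_pow]
  show ⇈(A ^ p) *ᵥ v = (1 : Matrix (Fin n) (Fin n) F) *ᵥ v
  rw [h1, Matrix.one_mulVec]

theorem dvd_card_of_ne_bot (S : Submodule F (Fin n → F)) (hS : S ≠ ⊥) : p ∣ Nat.card S := by
  obtain ⟨x, hxS, hx⟩ := (Submodule.ne_bot_iff S).1 hS
  have h1 : addOrderOf (⟨x, hxS⟩ : S) = p := addOrderOf_eq_prime (Subtype.ext (by
    show p • x = 0
    rw [← Nat.cast_smul_eq_nsmul F, CharP.cast_eq_zero, zero_smul])) (fun e => hx (congrArg Subtype.val e))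
  exact h1 ▸ addOrderOf_dvd_natCard _

theorem exists_fixed {D : Subgroup (SpecialLinearGroup (Fin n) F)} (hD : IsPGroup p D)
    {S : Submodule F (Fin n → F)} (hS : ∀ d ∈ D, ∀ v ∈ S, ⇈d *ᵥ v ∈ S) (hne : S ≠ ⊥) :
    ∃ w ∈ S, w ≠ 0 ∧ ∀ d ∈ D, ⇈d *ᵥ w = w := by
  letI : MulAction D S :=
    { smul := fun d v => ⟨⇈(d : SpecialLinearGroup (Fin n) F) *ᵥ (v : Fin n → F), hS _ d.2 _ v.2⟩
      one_smul := fun v => Subtype.ext (Matrix.one_mulVec _)
      mul_smul := fun a b v => Subtype.ext (mulVec_mul' _ _ _) }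
  obtain ⟨w, hw, hne'⟩ := hD.exists_fixed_point_of_prime_dvd_card_of_fixed_point S
    (dvd_card_of_ne_bot S hne) (a := (0 : S)) (fun d => Subtype.ext (show ⇈(d : SpecialLinearGroup (Fin n) F) *ᵥ (0 : Fin n → F) = 0 from Matrix.mulVec_zero _))
  exact ⟨w, w.2, fun e => hne' (Subtype.ext e).symm, fun d hd => congrArg Subtype.val (hw ⟨d, hd⟩)⟩

theorem disp_lt {D : Subgroup (SpecialLinearGroup (Fin n) F)} (hD : IsPGroup p D)
    {S : Submodule F (Fin n → F)} (hS : ∀ d ∈ D, ∀ v ∈ S, ⇈d *ᵥ v ∈ S) (hne : S ≠ ⊥) :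
    disp D S < S := by
  refine lt_of_le_of_ne (disp_le hS) fun heq => ?_
  let L : D → (S →ₗ[F] S) := fun d => (Matrix.mulVecLin ⇈(d : SpecialLinearGroup (Fin n) F)).restrict (hS _ d.2)
  have hL : ∀ (d : D) (v : S), (L d v : Fin n → F) = ⇈(d : SpecialLinearGroup (Fin n) F) *ᵥ (v : Fin n → F) :=
    fun d v => rfl
  letI : MulAction D (Module.Dual F S) :=
    { smul := fun d f => f.comp (L d⁻¹)
      one_smul := fun f => LinearMap.ext fun v => congrArg f (Subtype.ext (by
        rw [hL, inv_one]; exact Matrix.one_mulVec _))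
      mul_smul := fun a b f => LinearMap.ext fun v => congrArg f (Subtype.ext (by
        rw [hL, hL, hL, ← mulVec_mul', _root_.mul_inv_rev]; rfl)) }
  have : Finite (Module.Dual F S) := Module.finite_of_finite F
  have hcard : p ∣ Nat.card (Module.Dual F S) := by
    have e : Nat.card (Module.Dual F S) = Nat.card S := by
      rw [Module.natCard_eq_pow_finrank (K := F), Module.natCard_eq_pow_finrank (K := F) (V := S),
        Subspace.dual_finrank_eq]
    exact e ▸ dvd_card_of_ne_bot S hne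
  obtain ⟨f, hf, hf0⟩ := hD.exists_fixed_point_of_prime_dvd_card_of_fixed_point (Module.Dual F S)
    hcard (a := (0 : Module.Dual F S)) (fun d => LinearMap.ext fun v => rfl)
  apply hf0
  symm
  refine LinearMap.ext fun v => ?_
  have key : ∀ w, w ∈ disp D S → ∀ hw : w ∈ S, f ⟨w, hw⟩ = 0 := by
    intro w hw
    induction hw using Submodule.span_induction with
    | mem w hw =>
      obtain ⟨d, hd, v, hv, rfl⟩ := hw
      intro hw'
      have e : (⟨⇈d *ᵥ v - v, hw'⟩ : S) = L (⟨d, hd⟩⁻¹)⁻¹ ⟨v, hv⟩ - ⟨v, hv⟩ := Subtype.ext (by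
        rw [Submodule.coe_sub, hL, inv_inv])
      have h1 := LinearMap.congr_fun (hf (⟨d, hd⟩⁻¹ : D)) ⟨v, hv⟩
      rw [e, map_sub, sub_eq_zero]
      exact h1
    | zero => exact fun _ => map_zero f
    | add a b ha hb iha ihb =>
      intro hw'
      have ha' : a ∈ S := disp_le hS ha
      have hb' : b ∈ S := disp_le hS hb
      rw [show (⟨a + b, hw'⟩ : S) = ⟨a, ha'⟩ + ⟨b, hb'⟩ from rfl, map_add, iha ha', ihb hb', add_zero]
    | smul c a ha iha =>
      intro hw'
      have ha' : a ∈ S := disp_le hS ha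
      rw [show (⟨c • a, hw'⟩ : S) = c • ⟨a, ha'⟩ from rfl, map_smul, iha ha', smul_zero]
  exact key v.1 (heq.symm ▸ v.2) v.2

/-- The iterated displacement spaces. -/
def dispSeries (D : Subgroup (SpecialLinearGroup (Fin n) F)) : ℕ → Submodule F (Fin n → F)
  | 0 => ⊤
  | k + 1 => disp D (dispSeries D k)

omit [Fintype F] in
theorem dispSeries_invariant {D : Subgroup (SpecialLinearGroup (Fin n) F)} (k : ℕ) :
    ∀ g ∈ Subgroup.normalizer (D : Set _), ∀ v ∈ dispSeries D k, ⇈g *ᵥ v ∈ dispSeries D k := by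
  induction k with
  | zero => exact fun _ _ _ _ => Submodule.mem_top
  | succ k ih => exact fun g hg v hv => disp_invariant hg (ih g hg) hv

theorem dispSeries_eq_bot {D : Subgroup (SpecialLinearGroup (Fin n) F)} (hD : IsPGroup p D) :
    dispSeries D n = ⊥ := by
  have key : ∀ k, dispSeries D k = ⊥ ∨ Module.finrank F (dispSeries D k) + k ≤ n := by
    intro k
    induction k with
    | zero => right; rw [dispSeries, finrank_top, Module.finrank_fin_fun, add_zero]
    | succ k ih =>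
      by_cases hk : dispSeries D k = ⊥
      · left
        show disp D (dispSeries D k) = ⊥
        exact le_bot_iff.1 (hk ▸ disp_le fun d hd => dispSeries_invariant k d (Subgroup.le_normalizer hd))
      · have h1 := Submodule.finrank_lt_finrank_of_lt
          (disp_lt hD (fun d hd => dispSeries_invariant k d (Subgroup.le_normalizer hd)) hk)
        right
        show Module.finrank F (disp D (dispSeries D k)) + (k + 1) ≤ n
        have := ih.resolve_left hk
        omega
  rcases key n with h | h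
  · exact h
  · exact Submodule.finrank_eq_zero.1 (by omega)

/-- A p-regular element whose centraliser has the defect group as a Sylow subgroup is central. -/
theorem central_of_radical {D : Subgroup (SpecialLinearGroup (Fin n) F)} (hD : IsPGroup p D)
    (hD1 : D ≠ ⊥) {g : SpecialLinearGroup (Fin n) F} (hg : ¬ p ∣ orderOf g)
    (hDg : D ≤ Subgroup.centralizer ({g} : Set _))
    (hcore : (Cfsg.pCore p (Subgroup.normalizer (D : Set (SpecialLinearGroup (Fin n) F)))).map
      (Subgroup.normalizer (D : Set (SpecialLinearGroup (Fin n) F))).subtype = D) :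
    g ∈ Subgroup.center (SpecialLinearGroup (Fin n) F) := by
  set I := disp D (⊤ : Submodule F (Fin n → F)) with hIdef
  have hItop : I ≠ ⊤ := by
    by_cases h0 : (⊤ : Submodule F (Fin n → F)) = ⊥
    · exfalso
      apply hD1
      rw [Subgroup.eq_bot_iff_forall]
      intro d _
      refine Subtype.ext (Matrix.ext_of_mulVec_single fun j => ?_)
      have h1 : ∀ v : Fin n → F, v = 0 := fun v =>
        (Submodule.mem_bot F).1 (h0 ▸ (Submodule.mem_top : v ∈ (⊤ : Submodule F (Fin n → F))))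
      exact (h1 _).trans (h1 _).symm
    · exact (disp_lt hD (fun _ _ _ _ => Submodule.mem_top) h0).ne
  have hIinv : ∀ x ∈ Subgroup.normalizer (D : Set _), ∀ v ∈ I, ⇈x *ᵥ v ∈ I := fun x hx v hv =>
    disp_invariant hx (fun _ _ => Submodule.mem_top) hv
  have hI0 : I ≠ ⊥ := by
    intro h0
    apply hD1
    rw [Subgroup.eq_bot_iff_forall]
    intro d hd
    refine Subtype.ext (Matrix.ext_of_mulVec_single fun j => ?_)
    have h1 := disp_mem hd (Submodule.mem_top : (Pi.single j (1 : F) : Fin n → F) ∈ (⊤ : Submodule F _))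
    rw [← hIdef, h0, Submodule.mem_bot, sub_eq_zero] at h1
    rw [h1]
    exact (Matrix.one_mulVec _).symm
  set T := fixedSpace D ⊓ I with hTdef
  have hTI : T ≤ I := inf_le_right
  obtain ⟨w₀, hw₀, hw₀0, hw₀d⟩ := exists_fixed hD (fun d hd => hIinv d (Subgroup.le_normalizer hd)) hI0
  have hTinv : ∀ x ∈ Subgroup.normalizer (D : Set _), ∀ v ∈ T, ⇈x *ᵥ v ∈ T := by
    intro x hx v hv
    refine ⟨fun d hd => ?_, hIinv x hx v hv.2⟩
    have hd' : x⁻¹ * d * x ∈ D := by
      simpa using (Subgroup.mem_set_normalizer_iff.1 (inv_mem hx) d).1 hd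
    calc ⇈d *ᵥ (⇈x *ᵥ v) = ⇈x *ᵥ (⇈(x⁻¹ * d * x) *ᵥ v) := by
          rw [← mulVec_mul', ← mulVec_mul', mul_assoc x⁻¹, mul_inv_cancel_left]
      _ = ⇈x *ᵥ v := by rw [hv.1 _ hd']
  set R := transv I T hTI with hRdef
  have hRcomm : ∀ A ∈ R, ∀ d ∈ D, A * d = d * A := by
    intro A hA d hd
    refine Subtype.ext (Matrix.ext_of_mulVec_single fun j => ?_)
    set v : Fin n → F := Pi.single j 1
    show ⇈(A * d) *ᵥ v = ⇈(d * A) *ᵥ v
    have h1 : ⇈A *ᵥ (⇈d *ᵥ v - v) = ⇈d *ᵥ v - v := hA.2 _ (disp_mem hd Submodule.mem_top)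
    have h2 : ⇈d *ᵥ (⇈A *ᵥ v - v) = ⇈A *ᵥ v - v := (hA.1 v).1 d hd
    rw [Matrix.mulVec_sub, sub_eq_iff_eq_add] at h1 h2
    rw [mulVec_mul', mulVec_mul', h1, h2]
    abel
  have hRN : R ≤ Subgroup.normalizer (D : Set _) := by
    intro A hA
    refine Subgroup.centralizer_le_normalizer _ (Subgroup.mem_centralizer_iff.2 fun d hd => ?_)
    exact (hRcomm A hA d hd).symm
  have hRD : R ≤ D := by
    have hnorm : (R.subgroupOf (Subgroup.normalizer (D : Set (SpecialLinearGroup (Fin n) F)))).Normal := by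
      refine ⟨fun A hA x => ?_⟩
      have hA' : (A : SpecialLinearGroup (Fin n) F) ∈ R := hA
      show (x : SpecialLinearGroup (Fin n) F) * A * (x : SpecialLinearGroup (Fin n) F)⁻¹ ∈ R
      refine ⟨fun v => ?_, fun v hv => ?_⟩
      · have h := hTinv x x.2 _ (hA'.1 (⇈((x : SpecialLinearGroup (Fin n) F)⁻¹) *ᵥ v))
        rw [Matrix.mulVec_sub, mulVec_inv, ← mulVec_mul', ← mulVec_mul'] at h
        exact h
      · rw [mulVec_mul', mulVec_mul', hA'.2 _ (hIinv _ (inv_mem x.2) v hv), mulVec_inv]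
    intro A hA
    rw [← hcore]
    exact ⟨⟨A, hRN hA⟩, Core.le_pCore (hN := hnorm)
      ((isPGroup_transv (p := p) I T hTI).comap_subtype) hA, rfl⟩
  obtain ⟨f₀, hf₀ne, hf₀⟩ := Submodule.exists_le_ker_of_lt_top I (lt_top_iff_ne_top.2 hItop)
  obtain ⟨x₁, hx₁⟩ : ∃ x, f₀ x = 1 := by
    obtain ⟨x, hx⟩ : ∃ x, f₀ x ≠ 0 := by
      by_contra h
      push Not at h
      exact hf₀ne (LinearMap.ext h)
    exact ⟨(f₀ x)⁻¹ • x, by rw [map_smul, smul_eq_mul, inv_mul_cancel₀ hx]⟩
  have key : ∀ (f : (Fin n → F) →ₗ[F] F), I ≤ LinearMap.ker f → ∀ w ∈ T, ∀ x,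
      f x • (⇈g *ᵥ w) = f (⇈g *ᵥ x) • w := by
    intro f hf w hw x
    set fv : Fin n → F := fun j => f (Pi.single j 1) with hfv
    have hfa : ∀ y, fv ⬝ᵥ y = f y := fun y => by
      conv_rhs => rw [← Finset.univ_sum_single y, map_sum]
      refine Finset.sum_congr rfl fun j _ => ?_
      rw [show Pi.single j (y j) = y j • (Pi.single j 1 : Fin n → F) by
        rw [← Pi.single_smul, smul_eq_mul, mul_one], map_smul, smul_eq_mul]
      exact mul_comm _ _
    let M : Matrix (Fin n) (Fin n) F := 1 + Matrix.replicateCol Unit w * Matrix.replicateRow Unit fv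
    have hM : M.det = 1 := by
      rw [Matrix.det_one_add_replicateCol_mul_replicateRow, hfa, LinearMap.mem_ker.1 (hf hw.2), add_zero]
    have hMv : ∀ y, M *ᵥ y = y + f y • w := by
      intro y
      rw [Matrix.add_mulVec, Matrix.one_mulVec, ← Matrix.vecMulVec_eq, Matrix.vecMulVec_mulVec, hfa]
      rw [op_smul_eq_smul]
    have hA : (⟨M, hM⟩ : SpecialLinearGroup (Fin n) F) ∈ R := by
      refine ⟨fun v => ?_, fun v hv => ?_⟩
      · show M *ᵥ v - v ∈ T
        rw [hMv, add_sub_cancel_left]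
        exact Submodule.smul_mem _ _ hw
      · show M *ᵥ v = v
        rw [hMv, LinearMap.mem_ker.1 (hf hv), zero_smul, add_zero]
    have hc := Subgroup.mem_centralizer_singleton_iff.1 (hDg (hRD hA))
    have h0 : M * ⇈g = ⇈g * M := congrArg Subtype.val hc
    have h1 : (M * ⇈g) *ᵥ x = (⇈g * M) *ᵥ x := by rw [h0]
    rw [← Matrix.mulVec_mulVec, ← Matrix.mulVec_mulVec] at h1
    change M *ᵥ (⇈g *ᵥ x) = ⇈g *ᵥ (M *ᵥ x) at h1
    rw [hMv, hMv, Matrix.mulVec_add, Matrix.mulVec_smul, add_right_inj] at h1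
    exact h1.symm
  have hw₀T : w₀ ∈ T := ⟨hw₀d, hw₀⟩
  set c := f₀ (⇈g *ᵥ x₁) with hcdef
  have hgw : ⇈g *ᵥ w₀ = c • w₀ := by
    have h := key f₀ hf₀ w₀ hw₀T x₁
    rwa [hx₁, one_smul] at h
  have hmod : ∀ x, ⇈g *ᵥ x - c • x ∈ I := by
    intro x
    by_contra hx
    obtain ⟨f, hfx, hf⟩ := Submodule.exists_dual_map_eq_bot_of_notMem hx inferInstance
    have hfI : I ≤ LinearMap.ker f := fun y hy => LinearMap.mem_ker.2 ((Submodule.mem_bot F).1
      (hf ▸ Submodule.mem_map_of_mem hy))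
    have h := key f hfI w₀ hw₀T x
    rw [hgw, smul_smul] at h
    apply hfx
    rw [map_sub, map_smul, smul_eq_mul, smul_left_injective F hw₀0 h.symm, mul_comm, sub_self]
  set N : Matrix (Fin n) (Fin n) F := ⇈g - c • 1 with hN
  have hNv : ∀ x, N *ᵥ x = ⇈g *ᵥ x - c • x := fun x => by
    rw [hN, Matrix.sub_mulVec, Matrix.smul_mulVec, Matrix.one_mulVec]
  have hstep : ∀ k, ∀ x ∈ dispSeries D k, N *ᵥ x ∈ dispSeries D (k + 1) := by
    intro k
    induction k with
    | zero => exact fun x _ => hNv x ▸ hmod x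
    | succ k ih =>
      intro x hx
      change x ∈ disp D (dispSeries D k) at hx
      induction hx using Submodule.span_induction with
      | mem x hx =>
        obtain ⟨d, hd, v, hv, rfl⟩ := hx
        have hc : d * g = g * d := Subgroup.mem_centralizer_singleton_iff.1 (hDg hd)
        have e : N *ᵥ (⇈d *ᵥ v - v) = ⇈d *ᵥ (N *ᵥ v) - N *ᵥ v := by
          simp only [hNv, Matrix.mulVec_sub, Matrix.mulVec_smul, ← mulVec_mul', hc, smul_sub]
          abel
        rw [e]
        exact disp_mem hd (ih v hv)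
      | zero => rw [Matrix.mulVec_zero]; exact zero_mem _
      | add a b _ _ iha ihb => rw [Matrix.mulVec_add]; exact add_mem iha ihb
      | smul r a _ iha => rw [Matrix.mulVec_smul]; exact Submodule.smul_mem _ _ iha
  have hpow : ∀ k, ∀ x, (N ^ k) *ᵥ x ∈ dispSeries D k := by
    intro k
    induction k with
    | zero => exact fun _ => Submodule.mem_top
    | succ k ih =>
      intro x
      rw [pow_succ', ← Matrix.mulVec_mulVec]
      exact hstep k _ (ih x)
  have hnil : N ^ n = 0 := Matrix.ext_of_mulVec_single fun j => by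
    have h := hpow n (Pi.single j 1)
    rw [dispSeries_eq_bot hD, Submodule.mem_bot] at h
    rw [h, Matrix.zero_mulVec]
  rcases Nat.eq_zero_or_pos n with hn | hn
  · subst hn
    exact Subgroup.mem_center_iff.2 fun x => Subtype.ext (Matrix.ext fun i => i.elim0)
  haveI : Nonempty (Fin n) := ⟨⟨0, hn⟩⟩
  haveI : CharP (Matrix (Fin n) (Fin n) F) p := inferInstance
  have hp2 : n ≤ p ^ n := (Nat.lt_pow_self (Fact.out : p.Prime).one_lt).le
  have hsc : ⇈g ^ p ^ n = (c ^ p ^ n) • (1 : Matrix (Fin n) (Fin n) F) := by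
    have h := sub_pow_char_pow_of_commute (p := p) (n := n) (x := ⇈g) (y := c • 1)
      ((Commute.one_right _).smul_right c)
    rw [← hN, pow_eq_zero_of_le hp2 hnil, smul_pow, one_pow] at h
    exact sub_eq_zero.1 h.symm
  have hcentral : g ^ p ^ n ∈ Subgroup.center (SpecialLinearGroup (Fin n) F) := by
    refine Subgroup.mem_center_iff.2 fun x => Subtype.ext ?_
    show ⇈x * (⇈(g ^ p ^ n)) = ⇈(g ^ p ^ n) * ⇈x
    rw [show ⇈(g ^ p ^ n) = ⇈g ^ p ^ n by simp, hsc]
    simp
  obtain ⟨m, hm⟩ := exists_pow_eq_self_of_coprime (x := g) (n := p ^ n)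
    (((Fact.out : p.Prime).coprime_iff_not_dvd.2 hg).pow_left n)
  rw [← hm]
  exact pow_mem hcentral m

theorem defect_zero_or_full {M : Ideal Cfsg.AlgInt} (hM : Cfsg.IsPModular p M)
    {B : Set (Cfsg.IrrCharacter (SpecialLinearGroup (Fin n) F))} (hB : Cfsg.IsPBlock M B) :
    Cfsg.blockDefect p B = 0 ∨
      Cfsg.blockDefect p B = (Nat.card (SpecialLinearGroup (Fin n) F)).factorization p := by
  classical
  have : Fintype (SpecialLinearGroup (Fin n) F) := Fintype.ofFinite _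
  have hp : p.Prime := Fact.out
  obtain ⟨D, hD⟩ := DefectThms.exists_defectGroup hM hB
  have hcard := BlockChar.card_defectGroup hM hB hD
  by_cases hD1 : D = ⊥
  · left
    rw [hD1, Subgroup.card_bot] at hcard
    exact (pow_eq_one_iff.1 hcard.symm).resolve_left hp.ne_one
  right
  have hcore := DefectThms.pCore_normalizer_eq hM hB hD
  obtain ⟨g, hg, hgD⟩ := DefectThms.isDefectGroup_iff.1 hD
  have hreg : ¬ p ∣ orderOf g := by
    by_contra h
    exact hg.2.1 (BlockChar.blockCoeff_eq_zero hM hB (fun hr => hr h) ▸ memLocalIdeal_zero hM)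
  have hcen := central_of_radical hgD.2.1 hD1 hreg hgD.1 hcore
  have htop : Subgroup.centralizer ({g} : Set (SpecialLinearGroup (Fin n) F)) = ⊤ :=
    eq_top_iff.2 fun x _ => Subgroup.mem_centralizer_singleton_iff.2 (Subgroup.mem_center_iff.1 hcen x)
  have h := hgD.2.2
  rw [hcard, htop, Subgroup.card_top] at h
  exact Nat.pow_right_injective hp.two_le h

end Cfsg.Agent.SLSteinberg
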