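import Mathlib
import Cfsg.Agent.UniTri.Root
import Cfsg.Agent.GLFlags.Bruhat

/-!
Monomial elements of SL_n and the decomposition of the group into the double cosets of the upper
unitriangular subgroup.
-/

set_option autoImplicit false

namespace Cfsg.Agent.SLSteinberg

open Matrix Cfsg.Agent.UniTri

universe u

variable {n : ℕ} {K : Type u} [Field K]

/-- The underlying matrix. -/
local notation:max "⇈" A:max => ((A : SpecialLinearGroup (Fin n) K) : Matrix (Fin n) (Fin n) K)

/-- `g` is monomial with permutation `σ`. -/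
def IsMono (σ : Equiv.Perm (Fin n)) (g : SpecialLinearGroup (Fin n) K) : Prop :=
  ∀ i j, i ≠ σ j → ⇈g i j = 0

theorem IsMono.mul_apply_left {σ : Equiv.Perm (Fin n)} {g : SpecialLinearGroup (Fin n) K}
    (h : IsMono σ g) (A : SpecialLinearGroup (Fin n) K) (i j : Fin n) :
    ⇈(A * g) i j = ⇈A i (σ j) * ⇈g (σ j) j := by
  show (⇈A * ⇈g) i j = _
  rw [Matrix.mul_apply, Finset.sum_eq_single (σ j)]
  · exact fun k _ hk => by rw [h k j hk, mul_zero]
  · simp

theorem IsMono.mul_apply_right {σ : Equiv.Perm (Fin n)} {g : SpecialLinearGroup (Fin n) K}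
    (h : IsMono σ g) (A : SpecialLinearGroup (Fin n) K) (i j : Fin n) :
    ⇈(g * A) (σ i) j = ⇈g (σ i) i * ⇈A i j := by
  show (⇈g * ⇈A) (σ i) j = _
  rw [Matrix.mul_apply, Finset.sum_eq_single i]
  · exact fun k _ hk => by rw [h (σ i) k (fun e => hk (σ.injective e).symm), zero_mul]
  · simp

theorem IsMono.apply_ne_zero {σ : Equiv.Perm (Fin n)} {g : SpecialLinearGroup (Fin n) K}
    (h : IsMono σ g) (j : Fin n) : ⇈g (σ j) j ≠ 0 := fun h0 => by
  have hd := g.prop
  rw [Matrix.det_eq_zero_of_column_eq_zero j fun i => ?_] at hd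
  · exact zero_ne_one hd
  · by_cases e : i = σ j
    · rw [e]; exact h0
    · exact h i j e

theorem IsMono.perm_unique {σ τ : Equiv.Perm (Fin n)} {g : SpecialLinearGroup (Fin n) K}
    (h : IsMono σ g) (h' : IsMono τ g) : σ = τ :=
  Equiv.ext fun j => by_contra fun e => h.apply_ne_zero j (h' _ j e)

theorem isMono_one : IsMono (1 : Equiv.Perm (Fin n)) (1 : SpecialLinearGroup (Fin n) K) :=
  fun _ _ h => Matrix.one_apply_ne h

theorem IsMono.mul {σ τ : Equiv.Perm (Fin n)} {g g' : SpecialLinearGroup (Fin n) K}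
    (h : IsMono σ g) (h' : IsMono τ g') : IsMono (σ * τ) (g * g') := fun i j e => by
  rw [h'.mul_apply_left, h i (τ j) e, zero_mul]

theorem IsMono.inv_apply {σ : Equiv.Perm (Fin n)} {g : SpecialLinearGroup (Fin n) K}
    (h : IsMono σ g) (i j : Fin n) : ⇈(g⁻¹) i (σ j) * ⇈g (σ j) j = if i = j then 1 else 0 := by
  rw [← h.mul_apply_left g⁻¹ i j, inv_mul_cancel]
  exact Matrix.one_apply

theorem IsMono.inv {σ : Equiv.Perm (Fin n)} {g : SpecialLinearGroup (Fin n) K}
    (h : IsMono σ g) : IsMono σ⁻¹ g⁻¹ := fun i j e => by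
  rw [Equiv.Perm.inv_def] at e
  have h1 := h.inv_apply i (σ.symm j)
  rw [Equiv.apply_symm_apply, if_neg (fun h2 => e h2)] at h1
  rcases mul_eq_zero.1 h1 with h2 | h2
  · exact h2
  · exact absurd (by simpa using h2) (by simpa using h.apply_ne_zero (σ.symm j))

theorem IsMono.conj_apply {σ : Equiv.Perm (Fin n)} {g : SpecialLinearGroup (Fin n) K}
    (h : IsMono σ g) (A : SpecialLinearGroup (Fin n) K) (i j : Fin n) :
    ⇈(g⁻¹ * A * g) i j = ⇈(g⁻¹) i (σ i) * ⇈A (σ i) (σ j) * ⇈g (σ j) j := by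
  rw [h.mul_apply_left]
  congr 1
  have h1 := (h.inv).mul_apply_right A (σ i) (σ j)
  simpa using h1

theorem IsMono.inv_mul_self {σ : Equiv.Perm (Fin n)} {g : SpecialLinearGroup (Fin n) K}
    (h : IsMono σ g) (i : Fin n) : ⇈(g⁻¹) i (σ i) * ⇈g (σ i) i = 1 := by
  rw [h.inv_apply, if_pos rfl]

theorem IsMono.conj_mem_unitri {σ : Equiv.Perm (Fin n)} {g : SpecialLinearGroup (Fin n) K}
    (h : IsMono σ g) {A : SpecialLinearGroup (Fin n) K} (hA : A ∈ unitri n K) :
    g⁻¹ * A * g ∈ unitri n K ↔ ∀ i j, j < i → ⇈A (σ i) (σ j) = 0 := by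
  rw [mem_unitri]
  constructor
  · intro h1 i j hij
    have h2 := h1.1 i j hij
    rw [h.conj_apply] at h2
    rcases mul_eq_zero.1 h2 with h3 | h3
    · rcases mul_eq_zero.1 h3 with h4 | h4
      · have := h.inv_mul_self i
        rw [h4, zero_mul] at this
        exact absurd this zero_ne_one
      · exact h4
    · exact absurd h3 (h.apply_ne_zero j)
  · intro h1
    refine ⟨fun i j hij => ?_, fun i => ?_⟩
    · rw [h.conj_apply, h1 i j hij, mul_zero, zero_mul]
    · rw [h.conj_apply, (mem_unitri.1 hA).2, mul_one, h.inv_mul_self]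

/-- A diagonal monomial element normalises the unitriangular group. -/
theorem IsMono.conj_mem_of_one {g : SpecialLinearGroup (Fin n) K} (h : IsMono 1 g)
    {A : SpecialLinearGroup (Fin n) K} (hA : A ∈ unitri n K) : g⁻¹ * A * g ∈ unitri n K :=
  (h.conj_mem_unitri hA).2 fun _ _ hij => (mem_unitri.1 hA).1 _ _ hij

/-- Two double cosets with monomial representatives coincide only when the representatives do. -/
theorem IsMono.eq_of_mul_eq {σ τ : Equiv.Perm (Fin n)} {g g' : SpecialLinearGroup (Fin n) K}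
    (h : IsMono σ g) (h' : IsMono τ g') {A B : SpecialLinearGroup (Fin n) K}
    (hA : A ∈ unitri n K) (hB : B ∈ unitri n K) (e : A * g = g' * B) : g = g' := by
  have key : ∀ j, ⇈A (τ j) (σ j) * ⇈g (σ j) j = ⇈g' (τ j) j := fun j => by
    rw [← h.mul_apply_left, e, h'.mul_apply_right, (mem_unitri.1 hB).2, mul_one]
  have hle : ∀ j, τ j ≤ σ j := fun j => not_lt.1 fun hlt => h'.apply_ne_zero j (by
    rw [← key j, (mem_unitri.1 hA).1 _ _ hlt, zero_mul])
  have hsum : ∑ j, (τ j : ℕ) = ∑ j, (σ j : ℕ) := by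
    rw [Equiv.sum_comp τ (fun i : Fin n => (i : ℕ)), Equiv.sum_comp σ (fun i : Fin n => (i : ℕ))]
  have heq : τ = σ := Equiv.ext fun j => Fin.ext
    ((Finset.sum_eq_sum_iff_of_le fun i _ => Fin.le_def.1 (hle i)).1 hsum j (Finset.mem_univ j))
  subst heq
  refine sl_ext fun i j => ?_
  by_cases hi : i = τ j
  · subst hi
    rw [← key j, (mem_unitri.1 hA).2, one_mul]
  · rw [h i j hi, h' i j hi]

/-! ### Counting -/

/-- The number of pairs of columns kept in order by a permutation. -/
def asc (σ : Equiv.Perm (Fin n)) : ℕ :=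
  (Finset.univ.filter fun x : Fin n × Fin n => x.1 < x.2 ∧ σ x.1 < σ x.2).card

variable (n) in
/-- The number of pairs. -/
def numPairs : ℕ := (Finset.univ.filter fun x : Fin n × Fin n => x.1 < x.2).card

theorem asc_le (σ : Equiv.Perm (Fin n)) : asc σ ≤ numPairs n :=
  Finset.card_le_card fun x hx => by
    simp only [Finset.mem_filter, Finset.mem_univ, true_and] at hx ⊢
    exact hx.1

theorem asc_one : asc (1 : Equiv.Perm (Fin n)) = numPairs n := by simp [asc, numPairs]

theorem asc_rev (σ : Equiv.Perm (Fin n)) : asc (σ * Fin.revPerm) + asc σ = numPairs n := by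
  have h : asc (σ * Fin.revPerm) =
      (Finset.univ.filter fun x : Fin n × Fin n => x.1 < x.2 ∧ σ x.2 < σ x.1).card := by
    refine Finset.card_bij' (fun x _ => (Fin.rev x.2, Fin.rev x.1)) (fun x _ => (Fin.rev x.2, Fin.rev x.1))
      ?_ ?_ ?_ ?_ <;> simp
  rw [h, asc, ← Finset.card_union_of_disjoint]
  · refine congrArg Finset.card ?_
    ext x
    simp only [Finset.mem_union, Finset.mem_filter, Finset.mem_univ, true_and]
    refine ⟨fun hx => hx.elim And.left And.left, fun hx => ?_⟩
    rcases lt_trichotomy (σ x.1) (σ x.2) with h1 | h1 | h1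
    · exact Or.inr ⟨hx, h1⟩
    · exact absurd (σ.injective h1) hx.ne
    · exact Or.inl ⟨hx, h1⟩
  · rw [Finset.disjoint_left]
    intro x hx hx'
    simp only [Finset.mem_filter, Finset.mem_univ, true_and] at hx hx'
    exact lt_asymm hx.2 hx'.2

/-- The matrix with ones on the diagonal and prescribed entries on some positions above it. -/
def upMat (S : Fin n → Fin n → Prop) [DecidableRel S] (f : {x : Fin n × Fin n // x.1 < x.2 ∧ S x.1 x.2} → K) :
    Matrix (Fin n) (Fin n) K :=
  Matrix.of fun i j => if i = j then 1 else if h : i < j ∧ S i j then f ⟨(i, j), h⟩ else 0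

theorem card_restricted [Finite K] (S : Fin n → Fin n → Prop) [DecidableRel S] :
    Nat.card {A : SpecialLinearGroup (Fin n) K // A ∈ unitri n K ∧ ∀ i j, i < j → ¬ S i j → ⇈A i j = 0} =
      Nat.card K ^ (Finset.univ.filter fun x : Fin n × Fin n => x.1 < x.2 ∧ S x.1 x.2).card := by
  have hT : ∀ f, (upMat (K := K) S f).BlockTriangular id := fun f i j hij => by
    have h1 : ¬ (i < j ∧ S i j) := fun h => lt_asymm (show j < i from hij) h.1
    simp only [upMat, Matrix.of_apply, dif_neg h1, if_neg (Ne.symm (ne_of_lt (show j < i from hij)))]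
  have hd : ∀ f, (upMat (K := K) S f).det = 1 := fun f => by
    rw [Matrix.det_of_isUpperTriangular (hT f)]
    simp [upMat]
  rw [← Fintype.card_subtype, ← Nat.card_eq_fintype_card, ← Nat.card_fun]
  refine (Nat.card_eq_of_bijective (fun f => ⟨⟨upMat S f, hd f⟩, mem_unitri.2
    ⟨fun i j hij => hT f hij, fun i => by simp [upMat]⟩, fun i j hij hS => by
      show upMat S f i j = 0
      simp [upMat, hij.ne, hS]⟩) ⟨fun f g h => funext fun x => ?_, fun A => ?_⟩).symm
  · have h1 := congrFun (congrFun (congrArg Subtype.val (congrArg Subtype.val h)) x.1.1) x.1.2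
    change upMat (K := K) S f x.1.1 x.1.2 = upMat (K := K) S g x.1.1 x.1.2 at h1
    simpa [upMat, x.2.1.ne, x.2] using h1
  · refine ⟨fun x => ⇈A.1 x.1.1 x.1.2, Subtype.ext (sl_ext fun i j => ?_)⟩
    show upMat (K := K) S (fun x => ⇈A.1 x.1.1 x.1.2) i j = ⇈A.1 i j
    simp only [upMat, Matrix.of_apply]
    by_cases hij : i = j
    · rw [if_pos hij, hij, (mem_unitri.1 A.2.1).2]
    · rw [if_neg hij]
      split_ifs with h
      · rfl
      · rcases lt_or_gt_of_ne hij with h1 | h1
        · exact (A.2.2 i j h1 fun hS => h ⟨h1, hS⟩).symm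
        · exact ((mem_unitri.1 A.2.1).1 i j h1).symm

theorem card_unitri [Finite K] : Nat.card (unitri n K) = Nat.card K ^ numPairs n := by
  have h := card_restricted (K := K) (n := n) fun _ _ => True
  simp only [not_true_eq_false, false_implies, implies_true, and_true] at h
  exact h

theorem IsMono.card_stab [Finite K] {σ : Equiv.Perm (Fin n)} {g : SpecialLinearGroup (Fin n) K}
    (h : IsMono σ g) :
    Nat.card {A : SpecialLinearGroup (Fin n) K // A ∈ unitri n K ∧ g⁻¹ * A * g ∈ unitri n K} =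
      Nat.card K ^ asc σ := by
  have h1 := card_restricted (K := K) (n := n) fun r s => σ.symm r < σ.symm s
  have h2 : asc σ = (Finset.univ.filter fun x : Fin n × Fin n =>
      x.1 < x.2 ∧ σ.symm x.1 < σ.symm x.2).card := by
    refine Finset.card_bij' (fun x _ => (σ x.1, σ x.2)) (fun x _ => (σ.symm x.1, σ.symm x.2))
      ?_ ?_ ?_ ?_ <;> simp [and_comm]
  rw [h2, ← h1]
  refine Nat.card_congr (Equiv.subtypeEquivRight fun A => and_congr_right fun hA => ?_)
  rw [h.conj_mem_unitri hA]
  constructor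
  · intro h3 r s hrs hS
    have hne : σ.symm r ≠ σ.symm s := fun e => hrs.ne (σ.symm.injective e)
    have h4 := h3 (σ.symm r) (σ.symm s) (lt_of_le_of_ne (not_lt.1 hS) hne.symm)
    simpa using h4
  · intro h3 i j hij
    rcases lt_trichotomy (σ i) (σ j) with h4 | h4 | h4
    · exact h3 _ _ h4 (by simpa using hij.le)
    · exact absurd (σ.injective h4) hij.ne'
    · exact (mem_unitri.1 hA).1 _ _ h4

variable (n K) in
/-- The monomial elements, with their permutations. -/
def Mono : Type u := {x : Equiv.Perm (Fin n) × SpecialLinearGroup (Fin n) K // IsMono x.1 x.2}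

instance [Finite K] : Finite (Mono n K) := Subtype.finite

theorem Mono.ext {m m' : Mono n K} (h : m.1.2 = m'.1.2) : m = m' :=
  Subtype.ext (Prod.ext ((m.2).perm_unique (h ▸ m'.2)) h)

theorem exists_cell (g : SpecialLinearGroup (Fin n) K) :
    ∃ a ∈ unitri n K, ∃ m : Mono n K, ∃ b ∈ unitri n K, g = a * m.1.2 * b := by
  obtain ⟨u, hu, σ, b, hb, hg⟩ := GLFlags.exists_bruhat (SpecialLinearGroup.toGL g)
  have hgm : ⇈g = (u : Matrix (Fin n) (Fin n) K) * (GLFlags.permGL n K σ : Matrix (Fin n) (Fin n) K) *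
      (b : Matrix (Fin n) (Fin n) K) := congrArg Units.val hg
  have hu1 : (u : Matrix (Fin n) (Fin n) K).BlockTriangular id := hu.1
  have hud : (u : Matrix (Fin n) (Fin n) K).det = 1 := by
    rw [Matrix.det_of_isUpperTriangular hu1]
    exact Finset.prod_eq_one fun i _ => hu.2 i
  have hb1 : (b : Matrix (Fin n) (Fin n) K).BlockTriangular id := hb
  have hbne : ∀ i, (b : Matrix (Fin n) (Fin n) K) i i ≠ 0 := by
    have h := (Matrix.isUnits_det_units b).ne_zero
    rw [Matrix.det_of_isUpperTriangular hb1, Finset.prod_ne_zero_iff] at h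
    exact fun i => h i (Finset.mem_univ i)
  let V : Matrix (Fin n) (Fin n) K := Matrix.of fun i j =>
    ((b : Matrix (Fin n) (Fin n) K) i i)⁻¹ * (b : Matrix (Fin n) (Fin n) K) i j
  have hV : V.BlockTriangular id := fun i j hij => by simp [V, hb1 hij]
  have hVd : V.det = 1 := by
    rw [Matrix.det_of_isUpperTriangular hV]
    exact Finset.prod_eq_one fun i _ => by simp [V, hbne i]
  let M : Matrix (Fin n) (Fin n) K := (GLFlags.permGL n K σ : Matrix (Fin n) (Fin n) K) *
    Matrix.diagonal fun i => (b : Matrix (Fin n) (Fin n) K) i i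
  have hMV : M * V = (GLFlags.permGL n K σ : Matrix (Fin n) (Fin n) K) * (b : Matrix (Fin n) (Fin n) K) := by
    rw [Matrix.mul_assoc]
    congr 1
    ext i j
    rw [Matrix.diagonal_mul]
    simp [V, hbne i]
  have hMd : M.det = 1 := by
    have h := g.prop
    rw [hgm, Matrix.mul_assoc, ← hMV, Matrix.det_mul, Matrix.det_mul M V, hud, hVd, one_mul, mul_one] at h
    exact h
  refine ⟨⟨(u : Matrix (Fin n) (Fin n) K), hud⟩, mem_unitri.2 ⟨fun _ _ h => hu1 h, hu.2⟩,
    ⟨(σ, ⟨M, hMd⟩), fun i j hij => ?_⟩, ⟨V, hVd⟩,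
    mem_unitri.2 ⟨fun _ _ h => hV h, fun i => by simp [V, hbne i]⟩, Subtype.ext ?_⟩
  · show M i j = 0
    simp only [M, Matrix.mul_diagonal, GLFlags.permGL_apply, if_neg hij, zero_mul]
  · show ⇈g = (u : Matrix (Fin n) (Fin n) K) * M * V
    rw [hgm, Matrix.mul_assoc, ← hMV]
    exact (Matrix.mul_assoc _ _ _).symm

/-- Summing over the group cell by cell. -/
theorem sum_cells [Fintype K] [DecidableEq K] {R : Type*} [Field R] [CharZero R]
    [Fintype (Mono n K)] [Fintype (unitri n K)] (f : SpecialLinearGroup (Fin n) K → R) :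
    ∑ g, f g = ∑ m : Mono n K, ((Fintype.card K : R) ^ asc m.1.1)⁻¹ *
      ∑ a : unitri n K, ∑ b : unitri n K, f (a * m.1.2 * b) := by
  classical
  set Φ : unitri n K × Mono n K × unitri n K → SpecialLinearGroup (Fin n) K :=
    fun x => x.1 * x.2.1.1.2 * x.2.2 with hΦ
  let W : unitri n K × Mono n K × unitri n K → R := fun x =>
    ((Fintype.card K : R) ^ asc x.2.1.1.1)⁻¹ * f (Φ x)
  have hfib : ∀ g, ∑ x ∈ Finset.univ.filter (fun x => Φ x = g), W x = f g := by
    intro g
    obtain ⟨a, ha, m, b, hb, rfl⟩ := exists_cell g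
    have hm : ∀ x ∈ Finset.univ.filter (fun x => Φ x = a * m.1.2 * b),
        W x = ((Fintype.card K : R) ^ asc m.1.1)⁻¹ * f (a * m.1.2 * b) := by
      intro x hx
      rw [Finset.mem_filter] at hx
      have e : x.2.1 = m := Mono.ext (((x.2.1).2).eq_of_mul_eq m.2 (mul_mem (inv_mem ha) x.1.2)
        (mul_mem hb (inv_mem x.2.2.2)) (by
          have h1 := hx.2
          rw [mul_assoc, inv_mul_eq_iff_eq_mul, ← mul_assoc, ← mul_assoc, eq_mul_inv_iff_mul_eq]
          exact h1))
      simp only [W, hx.2, e]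
    have hcard : (Finset.univ.filter (fun x => Φ x = a * m.1.2 * b)).card =
        Fintype.card K ^ asc m.1.1 := by
      rw [← Fintype.card_subtype, ← Nat.card_eq_fintype_card, ← Nat.card_eq_fintype_card,
        ← (m.2).card_stab]
      refine (Nat.card_eq_of_bijective (fun A =>
        ⟨(⟨a * A.1, mul_mem ha A.2.1⟩, m, ⟨(m.1.2⁻¹ * A.1 * m.1.2)⁻¹ * b, mul_mem (inv_mem A.2.2) hb⟩),
          show a * A.1 * m.1.2 * ((m.1.2⁻¹ * A.1 * m.1.2)⁻¹ * b) = a * m.1.2 * b by group⟩)
        ⟨?_, ?_⟩).symm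
      · intro A A' hAA
        have h1 := congrArg (fun x => (x.1.1 : SpecialLinearGroup (Fin n) K)) hAA
        exact Subtype.ext (mul_left_cancel h1)
      · rintro ⟨⟨x, m', y⟩, hx⟩
        have e : m' = m := Mono.ext ((m'.2).eq_of_mul_eq m.2 (mul_mem (inv_mem ha) x.2)
          (mul_mem hb (inv_mem y.2)) (by
            rw [mul_assoc, inv_mul_eq_iff_eq_mul, ← mul_assoc, ← mul_assoc, eq_mul_inv_iff_mul_eq]
            exact hx))
        subst e
        simp only [hΦ] at hx
        have hy : m'.1.2⁻¹ * (a⁻¹ * x) * m'.1.2 = b * (y : SpecialLinearGroup (Fin n) K)⁻¹ := by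
          rw [eq_mul_inv_iff_mul_eq]
          calc m'.1.2⁻¹ * (a⁻¹ * x) * m'.1.2 * y = m'.1.2⁻¹ * a⁻¹ * (x * m'.1.2 * y) := by group
            _ = b := by rw [hx]; group
        refine ⟨⟨a⁻¹ * x, mul_mem (inv_mem ha) x.2, hy ▸ mul_mem hb (inv_mem y.2)⟩, Subtype.ext ?_⟩
        refine Prod.ext (Subtype.ext (mul_inv_cancel_left a (x : SpecialLinearGroup (Fin n) K)))
          (Prod.ext rfl (Subtype.ext ?_))
        show (m'.1.2⁻¹ * (a⁻¹ * x) * m'.1.2)⁻¹ * b = (y : SpecialLinearGroup (Fin n) K)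
        rw [hy]
        group
    rw [Finset.sum_congr rfl hm, Finset.sum_const, hcard, nsmul_eq_mul, Nat.cast_pow,
      mul_inv_cancel_left₀ (pow_ne_zero _ (Nat.cast_ne_zero.2 Fintype.card_ne_zero))]
  rw [← Finset.sum_congr rfl fun g _ => hfib g, Finset.sum_fiberwise, Fintype.sum_prod_type,
    Finset.sum_congr rfl fun a _ => Fintype.sum_prod_type (fun y : Mono n K × unitri n K => W (a, y)),
    Finset.sum_comm]
  refine Finset.sum_congr rfl fun m _ => ?_
  simp only [W, hΦ, Finset.mul_sum]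

/-- The reversing monomial element. -/
theorem exists_longest : ∃ g : SpecialLinearGroup (Fin n) K, IsMono Fin.revPerm g := by
  classical
  rcases n with _ | k
  · exact ⟨1, fun i => i.elim0⟩
  have hs : ((Equiv.Perm.sign (Fin.revPerm (n := k + 1)) : ℤ) : K) *
      ∏ i, (if i = (0 : Fin (k + 1)) then ((Equiv.Perm.sign (Fin.revPerm (n := k + 1)) : ℤ) : K) else 1) = 1 := by
    rw [Finset.prod_ite_eq' Finset.univ (0 : Fin (k + 1)), if_pos (Finset.mem_univ _)]
    rcases Int.units_eq_one_or (Equiv.Perm.sign (Fin.revPerm (n := k + 1))) with h | h <;> simp [h]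
  refine ⟨monomial Fin.revPerm _ hs, fun i j hij => ?_⟩
  rw [monomial_apply, if_neg]
  exact fun h => hij (by rw [← h, Equiv.apply_symm_apply])

/-- The index of the unitriangular group as a sum over monomial elements. -/
theorem sum_pow_asc [Finite K] [Fintype (Mono n K)] :
    (Nat.card (SpecialLinearGroup (Fin n) K) : ℝ) =
      (Nat.card K : ℝ) ^ numPairs n * ∑ m : Mono n K, (Nat.card K : ℝ) ^ asc m.1.1 := by
  classical
  have := Fintype.ofFinite K
  have := Fintype.ofFinite (unitri n K)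
  have hq : (Fintype.card K : ℝ) ≠ 0 := Nat.cast_ne_zero.2 Fintype.card_ne_zero
  have h := sum_cells (n := n) (K := K) (R := ℝ) fun _ => 1
  rw [Finset.sum_const, Finset.card_univ, nsmul_one, ← Nat.card_eq_fintype_card] at h
  obtain ⟨w, hw⟩ := exists_longest (n := n) (K := K)
  let e : Mono n K ≃ Mono n K :=
    { toFun := fun m => ⟨(m.1.1 * Fin.revPerm, m.1.2 * w), m.2.mul hw⟩
      invFun := fun m => ⟨(m.1.1 * Fin.revPerm⁻¹, m.1.2 * w⁻¹), m.2.mul hw.inv⟩
      left_inv := fun m => Mono.ext (mul_inv_cancel_right _ _)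
      right_inv := fun m => Mono.ext (inv_mul_cancel_right _ _) }
  rw [h, Finset.mul_sum]
  refine Fintype.sum_equiv e _ _ fun m => ?_
  simp only [Finset.sum_const, Finset.card_univ, nsmul_eq_mul, mul_one, ← Nat.card_eq_fintype_card,
    card_unitri, Nat.cast_pow]
  rw [inv_mul_eq_iff_eq_mul₀ (pow_ne_zero _ (Nat.cast_ne_zero.2 Nat.card_pos.ne'))]
  show _ = _ * (_ * (Nat.card K : ℝ) ^ asc (m.1.1 * Fin.revPerm))
  rw [← asc_rev m.1.1, pow_add]
  ring

/-- A permutation other than the identity has an adjacent descent. -/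
theorem exists_descent {σ : Equiv.Perm (Fin n)} (hσ : σ ≠ 1) :
    ∃ i k : Fin n, (k : ℕ) = i + 1 ∧ σ k < σ i := by
  by_contra h
  push Not at h
  apply hσ
  have hmono : StrictMono σ := by
    rcases n with _ | m
    · exact fun i => i.elim0
    rw [Fin.strictMono_iff_lt_succ]
    intro i
    exact lt_of_le_of_ne (h i.castSucc i.succ (by simp))
      fun e => (Fin.castSucc_lt_succ (i := i)).ne (σ.injective e)
  have := Subsingleton.elim (hmono.orderIsoOfSurjective σ σ.surjective) (OrderIso.refl (Fin n))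
  exact Equiv.ext fun i => congrArg (fun f : Fin n ≃o Fin n => f i) this

/-- Removing an adjacent descent raises the count by one. -/
theorem asc_mul_swap {σ : Equiv.Perm (Fin n)} {i k : Fin n} (hk : (k : ℕ) = i + 1) (hσ : σ k < σ i) :
    asc (σ * Equiv.swap i k) = asc σ + 1 := by
  have hik : i < k := Fin.lt_def.2 (by omega)
  set s := Equiv.swap i k with hs
  have hord : ∀ a b : Fin n, a < b → ¬ (a = i ∧ b = k) → s a < s b := by
    intro a b hab hne
    rw [hs, Fin.lt_def]
    rw [Fin.lt_def] at hab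
    rw [Fin.ext_iff, Fin.ext_iff] at hne
    by_cases h1 : a = i
    · by_cases h3 : b = k
      · exact absurd ⟨congrArg Fin.val h1, congrArg Fin.val h3⟩ hne
      · have h4 : b ≠ i := fun e => by rw [h1, e] at hab; omega
        rw [Fin.ext_iff] at h3
        rw [Equiv.swap_apply_of_ne_of_ne h4 (fun e => h3 (congrArg Fin.val e)), h1, Equiv.swap_apply_left]
        rw [h1] at hab
        omega
    · by_cases h2 : a = k
      · have h4 : b ≠ i := fun e => by rw [h2, e] at hab; omega
        have h5 : b ≠ k := fun e => by rw [h2, e] at hab; omega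
        rw [Equiv.swap_apply_of_ne_of_ne h4 h5, h2, Equiv.swap_apply_right]
        rw [h2] at hab
        omega
      · rw [Equiv.swap_apply_of_ne_of_ne h1 h2]
        rw [Fin.ext_iff] at h1 h2
        by_cases h3 : b = i
        · rw [h3] at hab
          rw [h3, Equiv.swap_apply_left]
          omega
        · by_cases h4 : b = k
          · rw [h4] at hab
            rw [h4, Equiv.swap_apply_right]
            omega
          · rw [Equiv.swap_apply_of_ne_of_ne h3 h4]
            exact hab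
  have h1 : Finset.univ.filter (fun x : Fin n × Fin n => x.1 < x.2 ∧ (σ * s) x.1 < (σ * s) x.2) =
      insert (i, k) ((Finset.univ.filter fun x : Fin n × Fin n => x.1 < x.2 ∧ σ x.1 < σ x.2).image
        fun x => (s x.1, s x.2)) := by
    ext ⟨a, b⟩
    rw [Finset.mem_filter, Finset.mem_insert, Finset.mem_image]
    simp only [Finset.mem_filter, Finset.mem_univ, true_and, Prod.mk.injEq, Equiv.Perm.mul_apply]
    constructor
    · rintro ⟨hab, hlt⟩
      by_cases hp : a = i ∧ b = k
      · exact Or.inl hp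
      · exact Or.inr ⟨(s a, s b), ⟨hord a b hab hp, hlt⟩, by simp [hs], by simp [hs]⟩
    · rintro (⟨rfl, rfl⟩ | ⟨x, ⟨hx, hx'⟩, rfl, rfl⟩)
      · exact ⟨hik, by simpa [hs] using hσ⟩
      · refine ⟨hord _ _ hx fun h => ?_, by simpa [hs] using hx'⟩
        rw [h.1, h.2] at hx'
        exact lt_asymm hx' hσ
  rw [asc, h1, Finset.card_insert_of_notMem, Finset.card_image_of_injective, asc]
  · intro x y h
    simp only [Prod.mk.injEq] at h
    exact Prod.ext (s.injective h.1) (s.injective h.2)
  · simp only [Finset.mem_image, Finset.mem_filter, Finset.mem_univ, true_and, Prod.mk.injEq, not_exists,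
      not_and]
    intro x hx h1 h2
    rw [hs, Equiv.swap_apply_eq_iff, Equiv.swap_apply_left] at h1
    rw [hs, Equiv.swap_apply_eq_iff, Equiv.swap_apply_right] at h2
    rw [h1, h2] at hx
    exact lt_asymm hik hx.1

end Cfsg.Agent.SLSteinberg
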