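import Mathlib
import Cfsg.Agent.SLSteinberg.Mono
import Cfsg.Agent.GLFlags.Degree
import Cfsg.Agent.GLFlags.Irreducible
import Cfsg.Agent.Classical.LinearBasic
import Cfsg.Agent.BlockThms.DefectZero
import Cfsg.Agent.Char.Clifford

/-!
The Steinberg character of GL_n restricts to an irreducible character of SL_n of degree the full
power of q.
-/

set_option autoImplicit false

namespace Cfsg.Agent.SLSteinberg

open Matrix Cfsg.Agent.UniTri
open scoped ComplexConjugate

universe u

theorem numPairs_eq (n : ℕ) : numPairs n = ∑ j : Fin n, (j : ℕ) := by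
  rw [numPairs, Finset.card_eq_sum_card_fiberwise (f := fun x : Fin n × Fin n => x.2) (t := Finset.univ)
    (fun x _ => Finset.mem_univ _)]
  refine Finset.sum_congr rfl fun j _ => ?_
  conv_rhs => rw [← Fin.card_Iio j]
  exact Finset.card_bij' (fun x _ => x.1) (fun i _ => (i, j))
    (fun x hx => by
      simp only [Finset.mem_filter, Finset.mem_univ, true_and] at hx
      exact Finset.mem_Iio.2 (hx.2 ▸ hx.1))
    (fun i hi => by simpa using Finset.mem_Iio.1 hi)
    (fun x hx => by
      simp only [Finset.mem_filter, Finset.mem_univ, true_and] at hx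
      exact Prod.ext rfl hx.2.symm)
    (fun i _ => rfl)

theorem steinberg_one {F : Type u} [Field F] [Fintype F] (n : ℕ) :
    Cfsg.unipotentCharacterGL n F (fun _ => 1) 1 = (Fintype.card F : ℂ) ^ numPairs n := by
  classical
  set q := Fintype.card F
  have h := GLFlags.unipotentCharacterGL_one (F := F) (q := q) rfl (fun _ : Fin n => 1) (by simp)
  have hq : (q : ℂ) ≠ 0 := Nat.cast_ne_zero.2 Fintype.card_ne_zero
  have hcomm : ∏ i : Fin n, ∏ j ∈ Finset.Ioi i,
      (GLFlags.qInt q (1 + j.val) - GLFlags.qInt q (1 + i.val)) =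
      ∏ j : Fin n, ∏ i ∈ Finset.Iio j, ((q : ℂ) ^ (1 + i.val) * GLFlags.qInt q (j.val - i.val)) := by
    rw [Finset.prod_comm' (t' := Finset.univ) (s' := fun j => Finset.Iio j)]
    · refine Finset.prod_congr rfl fun j _ => Finset.prod_congr rfl fun i hi => ?_
      have hij : (i : ℕ) < j := Fin.lt_def.1 (Finset.mem_Iio.1 hi)
      conv_lhs => rw [show 1 + j.val = (1 + i.val) + (j.val - i.val) by omega, GLFlags.qInt_add]
      ring
    · simp
  have hIio : ∀ (j : Fin n) (f : ℕ → ℂ), ∏ i ∈ Finset.Iio j, f i.val = ∏ i ∈ Finset.range j.val, f i := by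
    intro j f
    rw [← Nat.Iio_eq_range, ← Fin.map_valEmbedding_Iio, Finset.prod_map]
    rfl
  have hrow : ∀ j : Fin n, ∏ i ∈ Finset.Iio j, ((q : ℂ) ^ (1 + i.val) * GLFlags.qInt q (j.val - i.val)) =
      (q : ℂ) ^ (∑ i ∈ Finset.range j.val, i) * (q : ℂ) ^ j.val * GLFlags.qFac q j.val := by
    intro j
    rw [hIio j (fun i => (q : ℂ) ^ (1 + i) * GLFlags.qInt q (j.val - i)), Finset.prod_mul_distrib,
      Finset.prod_pow_eq_pow_sum, ← pow_add]
    congr 1
    · congr 1
      rw [Finset.sum_add_distrib, Finset.sum_const, Finset.card_range, smul_eq_mul, mul_one, add_comm]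
    · rw [GLFlags.qFac, ← Finset.prod_range_reflect]
      refine Finset.prod_congr rfl fun i hi => ?_
      rw [Finset.mem_range] at hi
      congr 1
      omega
  have hfac : ∏ i : Fin n, GLFlags.qFac q (1 + i.val) =
      GLFlags.qFac q n * ∏ j : Fin n, GLFlags.qFac q j.val := by
    have h0 : GLFlags.qFac q n = ∏ i : Fin n, GLFlags.qInt q (i.val + 1) :=
      (Fin.prod_univ_eq_prod_range (fun i => GLFlags.qInt q (i + 1)) n).symm
    rw [h0, ← Finset.prod_mul_distrib]
    refine Finset.prod_congr rfl fun i _ => ?_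
    rw [add_comm, GLFlags.qFac, GLFlags.qFac, Finset.prod_range_succ, mul_comm]
  simp only [hcomm, hrow, hfac, Finset.prod_mul_distrib, Finset.prod_pow_eq_pow_sum, GLFlags.sum_binom_two] at h
  rw [← numPairs_eq] at h
  have hne : GLFlags.qFac q n * ∏ j : Fin n, GLFlags.qFac q j.val ≠ 0 :=
    mul_ne_zero (GLFlags.qFac_ne_zero _ _)
      (Finset.prod_ne_zero_iff.2 fun j _ => GLFlags.qFac_ne_zero _ _)
  exact mul_right_cancel₀ (mul_ne_zero (pow_ne_zero (n * (n - 1) * (n - 2) / 6) hq) hne)
    (by linear_combination h)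

variable {F : Type u} [Field F] [Fintype F] {n : ℕ} {p : ℕ} [Fact p.Prime] [CharP F p]

theorem card_unitri_eq_sylow :
    Fintype.card F ^ numPairs n = p ^ (Nat.card (SpecialLinearGroup (Fin n) F)).factorization p := by
  obtain ⟨P, hP⟩ := exists_sylow (n := n) (K := F) p
  have h := P.card_eq_multiplicity
  rw [hP, card_unitri, Nat.card_eq_fintype_card] at h
  exact h

theorem exists_steinberg' (hn : 2 ≤ n) {M : Ideal Cfsg.AlgInt} (hM : Cfsg.IsPModular p M) :
    ∃ χ : Cfsg.IrrCharacter (SpecialLinearGroup (Fin n) F),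
      Cfsg.charDegree (χ : SpecialLinearGroup (Fin n) F → ℂ) =
        p ^ (Nat.card (SpecialLinearGroup (Fin n) F)).factorization p ∧
      ∀ x, (χ : SpecialLinearGroup (Fin n) F → ℂ) x =
        Cfsg.unipotentCharacterGL n F (fun _ => 1) (SpecialLinearGroup.toGL x) := by
  classical
  have hp : p.Prime := Fact.out
  have : Nonempty (Fin n) := ⟨⟨0, by omega⟩⟩
  set S := Cfsg.unipotentCharacterGL n F fun _ => 1 with hS
  have hSirr : Cfsg.IsIrrCharacter (GL (Fin n) F) S :=
    GLFlags.isIrrCharacter_unipotentCharacterGL (fun _ _ _ => le_rfl) (by simp)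
  have hS1 : S 1 = ((Fintype.card F ^ numPairs n : ℕ) : ℂ) := by rw [hS, steinberg_one, Nat.cast_pow]
  have hdeg : Cfsg.charDegree S = Fintype.card F ^ numPairs n := by
    rw [Cfsg.charDegree, hS1, Complex.natCast_re, Nat.floor_natCast]
  have hcodeg : ¬ p ∣ Nat.card (GL (Fin n) F) / Cfsg.charDegree S := by
    rw [hdeg, card_unitri_eq_sylow (p := p), Classical.card_gl_eq_mul_card_sl,
      Nat.mul_div_assoc _ (Nat.ordProj_dvd _ _)]
    intro hdvd
    rcases hp.dvd_mul.1 hdvd with h | h
    · obtain ⟨k, hk⟩ := FiniteField.card F p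
      have h1 : p ∣ Fintype.card F := hk.2 ▸ dvd_pow_self p k.ne_zero
      have h2 : p ∣ 1 := (Nat.dvd_add_right h).1
        (by rwa [Nat.sub_add_cancel (Fintype.card_pos (α := F))])
      exact hp.not_dvd_one h2
    · exact Nat.not_dvd_ordCompl hp Nat.card_pos.ne' h
  set ι : SpecialLinearGroup (Fin n) F →* GL (Fin n) F := SpecialLinearGroup.toGL with hι
  have hinj : Function.Injective ι := fun a b h => Subtype.ext (congrArg Units.val h)
  set N : Subgroup (GL (Fin n) F) := ι.range with hN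
  have hNdet : ∀ g : GL (Fin n) F, g ∈ N ↔ (g : Matrix (Fin n) (Fin n) F).det = 1 := fun g =>
    ⟨fun ⟨a, ha⟩ => ha ▸ a.2, fun h => ⟨⟨_, h⟩, Units.ext rfl⟩⟩
  haveI hnormal : N.Normal := ⟨fun a ha g => by
    rw [hNdet] at ha ⊢
    rw [Units.val_mul, Units.val_mul, Matrix.det_mul, Matrix.det_mul, ha, mul_one, ← Matrix.det_mul,
      ← Units.val_mul, mul_inv_cancel, Units.val_one, Matrix.det_one]⟩
  have : Fintype (GL (Fin n) F) := Fintype.ofFinite _
  have : Fintype N := Fintype.ofFinite _
  obtain ⟨φ, hφ⟩ := Char.exists_constituent_res (N := N) hSirr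
  have hclif := Char.clifford hSirr φ.2 hφ
  set e := Cfsg.classInner (fun x : N => S x) (φ : N → ℂ)
  obtain ⟨ek, hek⟩ := Char.classInner_isCharacter_eq_natCast
    (Char.isCharacter_res N (Char.IsIrr.isCharacter hSirr)) (Char.IsIrr.isCharacter φ.2)
  let f : unitri n F →* N :=
    ((ι.rangeRestrict).comp (unitri n F).subtype)
  have : Fintype (unitri n F) := Fintype.ofFinite _
  obtain ⟨k, hk⟩ := Char.classInner_isCharacter_eq_natCast
    (Char.isCharacter_comp f (Char.IsIrr.isCharacter φ.2)) (Char.isCharacter_one (G := unitri n F))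
  have hsumφ : ∑ x : unitri n F, (φ : N → ℂ) (f x) = (Nat.card (unitri n F) : ℂ) * (k : ℂ) := by
    rw [← hk, Cfsg.classInner, ← mul_assoc, mul_inv_cancel₀ (Nat.cast_ne_zero.2 Nat.card_pos.ne'), one_mul]
    simp
  have hsumS : ∑ x : unitri n F, S (f x : GL (Fin n) F) = (Nat.card (unitri n F) : ℂ) := by
    rw [Fintype.sum_eq_single (1 : unitri n F)]
    · rw [map_one, OneMemClass.coe_one, hS1, card_unitri, Nat.card_eq_fintype_card]
    · intro x hx
      refine BlockThms.eq_zero_of_not_dvd_codegree hM ⟨S, hSirr⟩ hcodeg (fun hreg => hreg ?_)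
      have h1 : orderOf ((f x : N) : GL (Fin n) F) = orderOf x := by
        rw [← orderOf_injective (unitri n F).subtype Subtype.val_injective x, ← orderOf_injective ι hinj]
        rfl
      rw [h1]
      obtain ⟨j, hj⟩ := IsPGroup.iff_orderOf.1 (isPGroup_unitri (n := n) (K := F) p) x
      rw [hj]
      exact dvd_pow_self p fun h0 => hx (orderOf_eq_one_iff.1 (by rw [hj, h0, pow_zero]))
  have horb : ∀ ψ ∈ Char.orbit (φ : N → ℂ),
      ∑ x : unitri n F, ψ (f x) = (Nat.card (unitri n F) : ℂ) * (k : ℂ) := by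
    intro ψ hψ
    obtain ⟨g, rfl⟩ := Char.mem_orbit.1 hψ
    set dd : Fin n → F := fun i => if (i : ℕ) = 0 then (g : Matrix (Fin n) (Fin n) F).det else 1 with hdd
    have hdd0 : ∀ i, dd i ≠ 0 := fun i => by
      simp only [hdd]; split_ifs
      exacts [(Matrix.isUnits_det_units g).ne_zero, one_ne_zero]
    have hddet : (Matrix.diagonal dd).det = (g : Matrix (Fin n) (Fin n) F).det := by
      rw [Matrix.det_diagonal, Finset.prod_eq_single (⟨0, by omega⟩ : Fin n)]
      · simp [hdd]
      · intro b _ hb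
        simp only [hdd]
        rw [if_neg fun h => hb (Fin.ext h)]
      · simp
    have hdne : (Matrix.diagonal dd).det ≠ 0 := hddet ▸ (Matrix.isUnits_det_units g).ne_zero
    set t : GL (Fin n) F := GeneralLinearGroup.mkOfDetNeZero (Matrix.diagonal dd) hdne with ht
    have hsN : g * t⁻¹ ∈ N := by
      rw [hNdet, Units.val_mul, Matrix.det_mul]
      have h1 : (t : Matrix (Fin n) (Fin n) F).det * ((t⁻¹ : GL (Fin n) F) : Matrix (Fin n) (Fin n) F).det = 1 := by
        rw [← Matrix.det_mul, ← Units.val_mul, mul_inv_cancel, Units.val_one, Matrix.det_one]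
      rw [show (t : Matrix (Fin n) (Fin n) F).det = (g : Matrix (Fin n) (Fin n) F).det from hddet] at h1
      exact h1
    have hconj : Char.conjFun g (φ : N → ℂ) = Char.conjFun t (φ : N → ℂ) := by
      conv_lhs => rw [← inv_mul_cancel_right g t, ← Char.conjFun_conjFun,
        Char.conjFun_of_mem hsN (Char.isClassFunction_of_isIrr φ.2)]
    rw [hconj, ← hsumφ]
    have htv : (t : Matrix (Fin n) (Fin n) F) = Matrix.diagonal dd := rfl
    have hti : ((t⁻¹ : GL (Fin n) F) : Matrix (Fin n) (Fin n) F) = Matrix.diagonal fun i => (dd i)⁻¹ := by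
      rw [Matrix.coe_units_inv, htv]
      exact Matrix.inv_eq_right_inv (by
        rw [Matrix.diagonal_mul_diagonal, ← Matrix.diagonal_one]
        congr 1
        funext i
        exact mul_inv_cancel₀ (hdd0 i))
    let T : unitri n F → unitri n F := fun x =>
      ⟨⟨(t : Matrix (Fin n) (Fin n) F) * ((x : SpecialLinearGroup (Fin n) F) : Matrix (Fin n) (Fin n) F) *
          ((t⁻¹ : GL (Fin n) F) : Matrix (Fin n) (Fin n) F), by
        rw [Matrix.det_mul, Matrix.det_mul, (x : SpecialLinearGroup (Fin n) F).2, mul_one, ← Matrix.det_mul,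
          ← Units.val_mul, mul_inv_cancel, Units.val_one, Matrix.det_one]⟩,
        mem_unitri.2 ⟨fun i j hij => by
          show ((t : Matrix (Fin n) (Fin n) F) * ((x : SpecialLinearGroup (Fin n) F) : Matrix (Fin n) (Fin n) F) *
            ((t⁻¹ : GL (Fin n) F) : Matrix (Fin n) (Fin n) F) : Matrix (Fin n) (Fin n) F) i j = 0
          rw [htv, hti, Matrix.mul_diagonal, Matrix.diagonal_mul, (mem_unitri.1 x.2).1 i j hij]
          ring,
        fun i => by
          show ((t : Matrix (Fin n) (Fin n) F) * ((x : SpecialLinearGroup (Fin n) F) : Matrix (Fin n) (Fin n) F) *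
            ((t⁻¹ : GL (Fin n) F) : Matrix (Fin n) (Fin n) F) : Matrix (Fin n) (Fin n) F) i i = 1
          rw [htv, hti, Matrix.mul_diagonal, Matrix.diagonal_mul, (mem_unitri.1 x.2).2 i, mul_one,
            mul_inv_cancel₀ (hdd0 i)]⟩⟩
    have hT : ∀ x, ((f (T x) : N) : GL (Fin n) F) = t * (f x : GL (Fin n) F) * t⁻¹ := fun x => Units.ext rfl
    have hTinj : Function.Injective T := fun a b h => by
      have h1 := congrArg (fun x => ((f x : N) : GL (Fin n) F)) h
      simp only [hT, mul_left_inj, mul_right_inj] at h1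
      exact Subtype.ext (hinj h1)
    refine Fintype.sum_bijective T (Finite.injective_iff_bijective.1 hTinj) _ _ fun x => ?_
    rw [Char.conjFun_apply]
    exact congrArg (φ : N → ℂ) (Subtype.ext (hT x).symm)
  have hkey : (1 : ℂ) = (ek : ℂ) * ((Char.orbit (φ : N → ℂ)).card : ℂ) * (k : ℂ) := by
    have h := Finset.sum_congr rfl fun x (_ : x ∈ (Finset.univ : Finset (unitri n F))) =>
      congrFun hclif (f x)
    simp only [Pi.smul_apply, Finset.sum_apply, smul_eq_mul, ← Finset.mul_sum] at h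
    rw [hsumS, Finset.sum_comm, Finset.sum_congr rfl horb, Finset.sum_const, nsmul_eq_mul,
      show e = (ek : ℂ) from hek] at h
    apply mul_left_cancel₀ (Nat.cast_ne_zero.2 (Nat.card_pos (α := unitri n F)).ne' : (Nat.card (unitri n F) : ℂ) ≠ 0)
    linear_combination h
  have hkeyN : 1 = ek * (Char.orbit (φ : N → ℂ)).card * k := by exact_mod_cast hkey
  have hek1 : ek = 1 := Nat.eq_one_of_mul_eq_one_right (Nat.eq_one_of_mul_eq_one_right hkeyN.symm)
  have horb1 : (Char.orbit (φ : N → ℂ)).card = 1 :=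
    Nat.eq_one_of_mul_eq_one_left (Nat.eq_one_of_mul_eq_one_right hkeyN.symm)
  obtain ⟨ψ, hψ⟩ := Finset.card_eq_one.1 horb1
  have hψφ : (φ : N → ℂ) = ψ := Finset.mem_singleton.1 (hψ ▸ Char.self_mem_orbit _)
  rw [hψ, Finset.sum_singleton, ← hψφ, show e = (ek : ℂ) from hek, hek1, Nat.cast_one, one_smul] at hclif
  have hres : Cfsg.IsIrrCharacter (SpecialLinearGroup (Fin n) F) (fun x => (φ : N → ℂ) (ι.rangeRestrict x)) :=
    (Char.isIrrCharacter_comp_equiv (MonoidHom.ofInjective hinj)).2 φ.2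
  refine ⟨⟨_, hres⟩, ?_, fun x => (congrFun hclif (ι.rangeRestrict x)).symm⟩
  rw [← card_unitri_eq_sylow, ← hdeg]
  show Cfsg.charDegree (fun x => (φ : N → ℂ) (ι.rangeRestrict x)) = Cfsg.charDegree S
  rw [Cfsg.charDegree, Cfsg.charDegree, map_one, ← congrFun hclif 1, OneMemClass.coe_one]

theorem exists_steinberg (hn : 2 ≤ n) {M : Ideal Cfsg.AlgInt} (hM : Cfsg.IsPModular p M) :
    ∃ χ : Cfsg.IrrCharacter (SpecialLinearGroup (Fin n) F),
      Cfsg.charDegree (χ : SpecialLinearGroup (Fin n) F → ℂ) =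
        p ^ (Nat.card (SpecialLinearGroup (Fin n) F)).factorization p :=
  (exists_steinberg' hn hM).imp fun _ h => h.1

end Cfsg.Agent.SLSteinberg
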