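import Mathlib

/-!
An invariant Hermitian form for a complex matrix representation and the averaging projection of
a subgroup.
-/

set_option autoImplicit false

namespace Cfsg.Agent.SLSteinberg

open scoped ComplexConjugate

universe u

variable {G : Type u} [Group G] [Fintype G] {N : ℕ} (ρ : Representation ℂ G (Fin N → ℂ))

/-- The invariant form. -/
noncomputable def pair (v w : Fin N → ℂ) : ℂ := ∑ g, ∑ j, conj (ρ g v j) * ρ g w j

/-- The squared norm. -/
noncomputable def sq (v : Fin N → ℂ) : ℝ := (pair ρ v v).re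

theorem pair_add_left (a b w : Fin N → ℂ) : pair ρ (a + b) w = pair ρ a w + pair ρ b w := by
  simp [pair, add_mul, Finset.sum_add_distrib]

theorem pair_add_right (v a b : Fin N → ℂ) : pair ρ v (a + b) = pair ρ v a + pair ρ v b := by
  simp [pair, mul_add, Finset.sum_add_distrib]

theorem pair_smul_left (c : ℂ) (v w : Fin N → ℂ) : pair ρ (c • v) w = conj c * pair ρ v w := by
  simp [pair, Finset.mul_sum, mul_assoc]

theorem pair_smul_right (c : ℂ) (v w : Fin N → ℂ) : pair ρ v (c • w) = c * pair ρ v w := by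
  simp [pair, Finset.mul_sum, mul_left_comm]

theorem pair_sum_left {ι : Type*} (s : Finset ι) (f : ι → Fin N → ℂ) (w : Fin N → ℂ) :
    pair ρ (∑ x ∈ s, f x) w = ∑ x ∈ s, pair ρ (f x) w := by
  classical
  induction s using Finset.induction_on with
  | empty => simp [pair]
  | insert a t ha ih => rw [Finset.sum_insert ha, Finset.sum_insert ha, pair_add_left, ih]

theorem pair_sum_right {ι : Type*} (s : Finset ι) (v : Fin N → ℂ) (f : ι → Fin N → ℂ) :
    pair ρ v (∑ x ∈ s, f x) = ∑ x ∈ s, pair ρ v (f x) := by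
  classical
  induction s using Finset.induction_on with
  | empty => simp [pair]
  | insert a t ha ih => rw [Finset.sum_insert ha, Finset.sum_insert ha, pair_add_right, ih]

theorem conj_pair (v w : Fin N → ℂ) : conj (pair ρ v w) = pair ρ w v := by
  simp [pair, mul_comm]

theorem re_pair_comm (v w : Fin N → ℂ) : (pair ρ v w).re = (pair ρ w v).re := by
  rw [← conj_pair ρ v w, Complex.conj_re]

omit [Fintype G] in
theorem apply_mul (a b : G) (v : Fin N → ℂ) : ρ (a * b) v = ρ a (ρ b v) :=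
  LinearMap.congr_fun (map_mul ρ a b) v

theorem pair_apply (x : G) (v w : Fin N → ℂ) : pair ρ (ρ x v) (ρ x w) = pair ρ v w := by
  rw [pair, pair]
  refine Fintype.sum_equiv (Equiv.mulRight x) _ _ fun g => ?_
  simp only [Equiv.coe_mulRight, apply_mul]

theorem pair_apply_left (x : G) (v w : Fin N → ℂ) : pair ρ (ρ x v) w = pair ρ v (ρ x⁻¹ w) := by
  rw [← pair_apply ρ x⁻¹ (ρ x v) w, ← apply_mul, inv_mul_cancel, map_one, Module.End.one_apply]

theorem sq_eq_sum (v : Fin N → ℂ) : sq ρ v = ∑ g, ∑ j, Complex.normSq (ρ g v j) := by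
  simp [sq, pair, Complex.normSq_apply]

theorem sq_nonneg' (v : Fin N → ℂ) : 0 ≤ sq ρ v := by
  rw [sq_eq_sum]
  exact Finset.sum_nonneg fun g _ => Finset.sum_nonneg fun j _ => Complex.normSq_nonneg _

theorem eq_zero_of_sq {v : Fin N → ℂ} (h : sq ρ v = 0) : v = 0 := by
  rw [sq_eq_sum] at h
  have h1 := (Finset.sum_eq_zero_iff_of_nonneg fun g _ => Finset.sum_nonneg fun j _ =>
    Complex.normSq_nonneg _).1 h 1 (Finset.mem_univ _)
  have h2 := (Finset.sum_eq_zero_iff_of_nonneg fun j _ => Complex.normSq_nonneg _).1 h1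
  funext j
  simpa using h2 j (Finset.mem_univ _)

theorem sq_apply (x : G) (v : Fin N → ℂ) : sq ρ (ρ x v) = sq ρ v := by rw [sq, pair_apply]; rfl

theorem sq_add (a b : Fin N → ℂ) : sq ρ (a + b) = sq ρ a + 2 * (pair ρ a b).re + sq ρ b := by
  simp only [sq, pair_add_left, pair_add_right, Complex.add_re, re_pair_comm ρ b a]
  ring

variable (U : Subgroup G) [Fintype U]

/-- The projection onto the fixed vectors of `U`. -/
noncomputable def avg : Module.End ℂ (Fin N → ℂ) := (Fintype.card U : ℂ)⁻¹ • ∑ x : U, ρ x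

omit [Fintype G] in
theorem avg_apply (v : Fin N → ℂ) : avg ρ U v = (Fintype.card U : ℂ)⁻¹ • ∑ x : U, ρ x v := by
  simp [avg, LinearMap.sum_apply]

omit [Fintype G] in
theorem avg_apply_mem {x : G} (hx : x ∈ U) (v : Fin N → ℂ) : avg ρ U (ρ x v) = avg ρ U v := by
  rw [avg_apply, avg_apply]
  congr 1
  refine Fintype.sum_equiv (Equiv.mulRight ⟨x, hx⟩) _ _ fun y => ?_
  exact (LinearMap.congr_fun (map_mul ρ (y : G) x) v).symm

omit [Fintype G] in
theorem apply_avg_mem {x : G} (hx : x ∈ U) (v : Fin N → ℂ) : ρ x (avg ρ U v) = avg ρ U v := by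
  rw [avg_apply, map_smul, map_sum]
  congr 1
  refine Fintype.sum_equiv (Equiv.mulLeft ⟨x, hx⟩) _ _ fun y => ?_
  exact (LinearMap.congr_fun (map_mul ρ x (y : G)) v).symm

omit [Fintype G] in
theorem avg_avg (v : Fin N → ℂ) : avg ρ U (avg ρ U v) = avg ρ U v := by
  conv_lhs => rw [avg_apply]
  simp only [apply_avg_mem ρ U (Subtype.prop _), Finset.sum_const, Finset.card_univ]
  rw [← Nat.cast_smul_eq_nsmul ℂ, smul_smul,
    inv_mul_cancel₀ (Nat.cast_ne_zero.2 Fintype.card_ne_zero), one_smul]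

omit [Fintype G] in
theorem apply_of_fixed {x : G} (hx : x ∈ U) {v : Fin N → ℂ} (hv : avg ρ U v = v) : ρ x v = v := by
  rw [← hv]; exact apply_avg_mem ρ U hx v

theorem pair_avg (v w : Fin N → ℂ) : pair ρ (avg ρ U v) w = pair ρ v (avg ρ U w) := by
  rw [avg_apply, avg_apply, pair_smul_left, pair_smul_right, pair_sum_left, pair_sum_right,
    map_inv₀, map_natCast]
  congr 1
  refine Fintype.sum_equiv (Equiv.inv U) _ _ fun x => ?_
  rw [pair_apply_left]
  simp

omit [Fintype G] in
/-- The projection commutes with the normalizer of `U`. -/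
theorem avg_comm {t : G} (h : ∀ x ∈ U, t⁻¹ * x * t ∈ U) (h' : ∀ x ∈ U, t * x * t⁻¹ ∈ U)
    (v : Fin N → ℂ) : avg ρ U (ρ t v) = ρ t (avg ρ U v) := by
  rw [avg_apply, avg_apply, map_smul, map_sum]
  congr 1
  refine Fintype.sum_equiv
    { toFun := fun (x : U) => (⟨t⁻¹ * x * t, h x x.2⟩ : U)
      invFun := fun (x : U) => (⟨t * x * t⁻¹, h' x x.2⟩ : U)
      left_inv := fun x => Subtype.ext (by group)
      right_inv := fun x => Subtype.ext (by group) } _ _ fun x => ?_
  simp only [Equiv.coe_fn_mk, ← apply_mul ρ]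
  simp [mul_assoc]

end Cfsg.Agent.SLSteinberg
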