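import Mathlib
import Cfsg.Agent.SLSteinberg.Mono

/-!
The root subgroups, Weyl elements and coroot elements of an adjacent pair of indices in SL_n.
-/

set_option autoImplicit false

namespace Cfsg.Agent.SLSteinberg

open Matrix Cfsg.Agent.UniTri

universe u

variable {n : ℕ} {K : Type u} [Field K] {i k : Fin n} (hik : i < k)

/-- The underlying matrix. -/
local notation:max "⇈" A:max => ((A : SpecialLinearGroup (Fin n) K) : Matrix (Fin n) (Fin n) K)

/-- The positive root element. -/
def xe (c : K) : SpecialLinearGroup (Fin n) K := SpecialLinearGroup.transvection hik.ne c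

/-- The negative root element. -/
def ye (c : K) : SpecialLinearGroup (Fin n) K := SpecialLinearGroup.transvection hik.ne' c

/-- The monomial element of the pair with parameter `t`. -/
def we (t : K) : SpecialLinearGroup (Fin n) K := xe hik t * ye hik (-t⁻¹) * xe hik t

/-- The coroot element. -/
def he (t : K) : SpecialLinearGroup (Fin n) K := we hik t * (we hik 1)⁻¹

theorem he_mul_we (t : K) : he hik t * we hik 1 = we hik t := inv_mul_cancel_right _ _

theorem xe_mem (c : K) : xe hik c ∈ unitri n K := tv_mem hik c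

theorem xe_add (a b : K) : xe hik (a + b) = xe hik a * xe hik b := by
  refine sl_ext fun r l => ?_
  rw [xe, xe, xe, tv_mul_apply, tv_apply, tv_apply, tv_apply]
  have h : (1 : Matrix (Fin n) (Fin n) K) k l = if l = k then 1 else 0 := by
    simp [Matrix.one_apply, eq_comm]
  rw [h]
  split_ifs <;> simp_all [hik.ne'] <;> ring

theorem ye_add (a b : K) : ye hik (a + b) = ye hik a * ye hik b := by
  refine sl_ext fun r l => ?_
  rw [ye, ye, ye, tv_mul_apply, tv_apply, tv_apply, tv_apply]
  have h : (1 : Matrix (Fin n) (Fin n) K) i l = if l = i then 1 else 0 := by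
    simp [Matrix.one_apply, eq_comm]
  rw [h]
  split_ifs <;> simp_all [hik.ne] <;> ring

theorem xe_zero : xe hik (0 : K) = 1 :=
  mul_eq_left.1 (show xe hik (0 : K) * xe hik 0 = xe hik 0 by rw [← xe_add, add_zero])

theorem ye_zero : ye hik (0 : K) = 1 :=
  mul_eq_left.1 (show ye hik (0 : K) * ye hik 0 = ye hik 0 by rw [← ye_add, add_zero])

theorem xe_inv (a : K) : (xe hik a)⁻¹ = xe hik (-a) :=
  inv_eq_of_mul_eq_one_right (by rw [← xe_add, add_neg_cancel, xe_zero])

theorem ye_inv (a : K) : (ye hik a)⁻¹ = ye hik (-a) :=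
  inv_eq_of_mul_eq_one_right (by rw [← ye_add, add_neg_cancel, ye_zero])

theorem we_inv (t : K) : (we hik t)⁻¹ = we hik (-t) := by
  simp only [we, _root_.mul_inv_rev, xe_inv, ye_inv, inv_neg, mul_assoc]

theorem ye_eq (c : K) : ye hik c = xe hik c⁻¹ * we hik (-c⁻¹) * xe hik c⁻¹ := by
  simp only [we, inv_neg, inv_inv, neg_neg, mul_assoc, ← xe_add, neg_add_cancel, xe_zero, mul_one]
  rw [← mul_assoc, ← xe_add, add_neg_cancel, xe_zero, one_mul]

theorem we_apply (t : K) (ht : t ≠ 0) (r l : Fin n) :
    ⇈(we hik t) r l = if r = i then (if l = k then t else 0)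
      else if r = k then (if l = i then -t⁻¹ else 0) else if r = l then 1 else 0 := by
  have h1 : ∀ a b, (1 : Matrix (Fin n) (Fin n) K) a b = if a = b then 1 else 0 := fun a b => Matrix.one_apply
  simp only [we, xe, ye, mul_tv_apply, tv_apply, h1]
  rcases eq_or_ne r i with rfl | hri
  · rcases eq_or_ne l k with rfl | hlk
    · simp [hik.ne, hik.ne', ht]
    · rcases eq_or_ne l r with rfl | hlr
      · simp [hik.ne, hik.ne', ht]
      · simp [hlk, hlr, Ne.symm hlr, hik.ne, hik.ne']
  · rcases eq_or_ne r k with rfl | hrk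
    · rcases eq_or_ne l i with rfl | hli
      · simp [hik.ne, hik.ne', ht]
      · rcases eq_or_ne l r with rfl | hlr
        · simp [hri, hli, Ne.symm hli, ht]
        · simp [hri, hli, hlr, Ne.symm hlr, Ne.symm hli]
    · by_cases hrl : r = l
      · subst hrl; simp [hri, hrk]
      · simp [hri, hrk, hrl]

theorem isMono_we (t : K) (ht : t ≠ 0) : IsMono (Equiv.swap i k) (we hik t) := fun r l e => by
  rw [we_apply hik t ht]
  rcases eq_or_ne l i with rfl | hli
  · rw [Equiv.swap_apply_left] at e
    simp [e, hik.ne]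
  · rcases eq_or_ne l k with rfl | hlk
    · rw [Equiv.swap_apply_right] at e
      simp [e, hik.ne']
    · rw [Equiv.swap_apply_of_ne_of_ne hli hlk] at e
      simp [e, hli, hlk]

theorem isMono_he {t : K} (ht : t ≠ 0) : IsMono 1 (he hik t) := by
  have h := (isMono_we hik t ht).mul (isMono_we hik (1 : K) one_ne_zero).inv
  rwa [mul_inv_cancel] at h

theorem he_apply {t : K} (ht : t ≠ 0) (j : Fin n) :
    ⇈(he hik t) j j = if j = i then t else if j = k then t⁻¹ else 1 := by
  set s := Equiv.swap i k with hs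
  have h : ⇈(he hik t * we hik 1) j (s j) = ⇈(we hik t) j (s j) := by rw [he_mul_we]
  have h2 := (isMono_we hik (1 : K) one_ne_zero).mul_apply_left (he hik t) j (s j)
  rw [hs, Equiv.swap_apply_self, ← hs] at h2
  rw [h2, we_apply hik t ht, we_apply hik (1 : K) one_ne_zero] at h
  rcases eq_or_ne j i with rfl | hji
  · simpa [hs] using h
  · rcases eq_or_ne j k with rfl | hjk
    · simpa [hs, hji, hik.ne'] using h
    · simpa [hs, hji, hjk, Equiv.swap_apply_of_ne_of_ne hji hjk] using h

theorem eq_of_diag {A B : SpecialLinearGroup (Fin n) K} (hA : IsMono 1 A) (hB : IsMono 1 B)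
    (h : ∀ j, ⇈A j j = ⇈B j j) : A = B :=
  sl_ext fun r l => by
    rcases eq_or_ne r l with rfl | hne
    · exact h r
    · rw [hA r l hne, hB r l hne]

theorem diag_mul {A B : SpecialLinearGroup (Fin n) K} (hB : IsMono 1 B) (j : Fin n) :
    ⇈(A * B) j j = ⇈A j j * ⇈B j j := hB.mul_apply_left A j j

theorem he_mul {t s : K} (ht : t ≠ 0) (hs : s ≠ 0) : he hik t * he hik s = he hik (t * s) :=
  eq_of_diag (by simpa using (isMono_he hik ht).mul (isMono_he hik hs))
    (isMono_he hik (mul_ne_zero ht hs)) fun j => by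
      rw [diag_mul (isMono_he hik hs), he_apply hik ht, he_apply hik hs, he_apply hik (mul_ne_zero ht hs)]
      split_ifs <;> simp [mul_inv]; ring

theorem he_one : he hik (1 : K) = 1 := mul_inv_cancel _

theorem he_inv {t : K} (ht : t ≠ 0) : (he hik t)⁻¹ = he hik t⁻¹ :=
  inv_eq_of_mul_eq_one_right (by rw [he_mul hik ht (inv_ne_zero ht), mul_inv_cancel₀ ht, he_one])

theorem we_one_inv : (we hik (1 : K))⁻¹ = he hik (-1) * we hik 1 := by rw [he_mul_we, we_inv]

theorem we_conj_he {t : K} (ht : t ≠ 0) : (we hik (1 : K))⁻¹ * he hik t * we hik 1 = he hik t⁻¹ := by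
  have hw := isMono_we hik (1 : K) one_ne_zero
  refine eq_of_diag ?_ (isMono_he hik (inv_ne_zero ht)) fun j => ?_
  · have h := (hw.inv.mul (isMono_he hik ht)).mul hw
    simpa using h
  · rw [hw.conj_apply, he_apply hik ht, mul_right_comm, hw.inv_mul_self, one_mul,
      he_apply hik (inv_ne_zero ht), inv_inv]
    rcases eq_or_ne j i with rfl | hji
    · simp [hik.ne']
    · rcases eq_or_ne j k with rfl | hjk
      · simp [hji]
      · simp [Equiv.swap_apply_of_ne_of_ne hji hjk, hji, hjk]

theorem we_conj_xe (c : K) : (we hik (1 : K))⁻¹ * xe hik c * we hik 1 = ye hik (-c) := by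
  have hw := isMono_we hik (1 : K) one_ne_zero
  refine sl_ext fun r l => ?_
  rw [hw.conj_apply, xe, ye, tv_apply, tv_apply]
  have hi : Equiv.swap i k r = i ↔ r = k := by
    rw [Equiv.swap_apply_eq_iff, Equiv.swap_apply_left]
  have hk : Equiv.swap i k l = k ↔ l = i := by
    rw [Equiv.swap_apply_eq_iff, Equiv.swap_apply_right]
  by_cases hrl : r = k ∧ l = i
  · obtain ⟨rfl, rfl⟩ := hrl
    have h1 := hw.inv_mul_self r
    rw [Equiv.swap_apply_right] at h1 ⊢
    rw [Equiv.swap_apply_left]
    have e1 : ⇈(we hik (1 : K)) l r = 1 := by simp [we_apply]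
    have e2 : ⇈(we hik (1 : K)) r l = -1 := by simp [we_apply, hik.ne']
    rw [e1, mul_one] at h1
    rw [h1, e2]
    simp [hik.ne, hik.ne']
  · rw [if_neg (fun h => hrl ⟨hi.1 h.1, hk.1 h.2⟩), if_neg hrl, add_zero, add_zero]
    by_cases h : r = l
    · subst h
      rw [Matrix.one_apply_eq, mul_one, hw.inv_mul_self, Matrix.one_apply_eq]
    · rw [Matrix.one_apply_ne fun e => h ((Equiv.swap i k).injective e), Matrix.one_apply_ne h,
        mul_zero, zero_mul]

section Adjacent

variable (hk : (k : ℕ) = i + 1)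
include hk

theorem we_conj_mem {A : SpecialLinearGroup (Fin n) K} (hA : A ∈ unitri n K) (h : ⇈A i k = 0) :
    (we hik (1 : K))⁻¹ * A * we hik 1 ∈ unitri n K := by
  rw [(isMono_we hik (1 : K) one_ne_zero).conj_mem_unitri hA]
  intro a b hba
  rcases lt_trichotomy (Equiv.swap i k a) (Equiv.swap i k b) with h1 | h1 | h1
  · suffices e : Equiv.swap i k a = i ∧ Equiv.swap i k b = k by rw [e.1, e.2]; exact h
    rw [Fin.lt_def] at hba h1
    rcases eq_or_ne a k with rfl | hak
    · rw [Equiv.swap_apply_right] at h1 ⊢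
      rcases eq_or_ne b i with rfl | hbi
      · simp
      · have hbk : b ≠ a := fun e => by rw [e] at hba; omega
        rw [Equiv.swap_apply_of_ne_of_ne hbi hbk] at h1
        omega
    · exfalso
      rcases eq_or_ne a i with rfl | hai
      · have h2 : b ≠ a := fun e => by rw [e] at hba; omega
        have h3 : b ≠ k := fun e => by rw [e] at hba; omega
        rw [Equiv.swap_apply_left, Equiv.swap_apply_of_ne_of_ne h2 h3] at h1
        omega
      · rw [Equiv.swap_apply_of_ne_of_ne hai hak] at h1
        rw [Ne, Fin.ext_iff] at hai hak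
        rcases eq_or_ne b i with rfl | hbi
        · rw [Equiv.swap_apply_left] at h1; omega
        · rcases eq_or_ne b k with rfl | hbk
          · rw [Equiv.swap_apply_right] at h1; omega
          · rw [Equiv.swap_apply_of_ne_of_ne hbi hbk] at h1; omega
  · exact absurd ((Equiv.swap i k).injective h1) hba.ne'
  · exact (mem_unitri.1 hA).1 _ _ h1

omit hk in
theorem mul_xe_apply {A : SpecialLinearGroup (Fin n) K} (hA : A ∈ unitri n K) (c : K) :
    ⇈(A * xe hik c) i k = ⇈A i k + c := by
  rw [xe, mul_tv_apply, if_pos rfl, (mem_unitri.1 hA).2, one_mul]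

end Adjacent

/-- A monomial element keeping the pair in order carries the root group into the unitriangular group. -/
theorem IsMono.conj_xe_mem {σ : Equiv.Perm (Fin n)} {g : SpecialLinearGroup (Fin n) K}
    (h : IsMono σ g) (hσ : σ i < σ k) (c : K) : g * xe hik c * g⁻¹ ∈ unitri n K := by
  have h' := (h.inv.conj_mem_unitri (xe_mem hik c)).2 fun a b hba => by
    rw [xe, tv_apply, Matrix.one_apply_ne (fun e => hba.ne' ((σ⁻¹).injective e)), zero_add, if_neg]
    rintro ⟨h1, h2⟩
    rw [Equiv.Perm.inv_def, Equiv.symm_apply_eq] at h1 h2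
    rw [h1, h2] at hba
    exact lt_asymm hσ hba
  rwa [inv_inv] at h'

end Cfsg.Agent.SLSteinberg
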