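import Mathlib
import Cfsg.Agent.SLSteinberg.Rank
import Cfsg.Agent.SLSteinberg.Op

/-!
The double coset operators on the fixed vectors of the unitriangular group: every one of them is
bounded below, with equality for all of them only in the case of the sign character.
-/

set_option autoImplicit false

namespace Cfsg.Agent.SLSteinberg

open Matrix Cfsg.Agent.UniTri

universe u

variable {n : ℕ} {K : Type u} [Field K] [Fintype K] [DecidableEq K] [Fintype (unitri n K)] {N : ℕ}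
  (ρ : Representation ℂ (SpecialLinearGroup (Fin n) K) (Fin N → ℂ))

/-- The underlying matrix. -/
local notation:max "⇈" A:max => ((A : SpecialLinearGroup (Fin n) K) : Matrix (Fin n) (Fin n) K)

local notation "U" => unitri n K

local notation "q" => Fintype.card K

theorem avg_comm_diag {t : SpecialLinearGroup (Fin n) K} (ht : IsMono 1 t) (v : Fin N → ℂ) :
    avg ρ U (ρ t v) = ρ t (avg ρ U v) :=
  avg_comm ρ U (fun _ hx => ht.conj_mem_of_one hx)
    (fun x hx => by
      have h := IsMono.conj_mem_of_one (g := t⁻¹) (by simpa using ht.inv) hx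
      simpa using h) v

section Pair

variable {i k : Fin n} (hik : i < k)

/-- The averaging projection over the coroot torus. -/
noncomputable def torAvg (v : Fin N → ℂ) : Fin N → ℂ :=
  (Fintype.card Kˣ : ℂ)⁻¹ • ∑ t : Kˣ, ρ (he hik (t : K)) v

theorem torAvg_apply (v : Fin N → ℂ) (s : Kˣ) :
    ρ (he hik (s : K)) (torAvg ρ hik v) = torAvg ρ hik v := by
  rw [torAvg, map_smul, map_sum]
  congr 1
  refine Fintype.sum_equiv (Equiv.mulLeft s) _ _ fun t => ?_
  rw [← apply_mul, he_mul hik s.ne_zero t.ne_zero]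
  simp

theorem torAvg_of_fixed {v : Fin N → ℂ} (h : ∀ t : Kˣ, ρ (he hik (t : K)) v = v) :
    torAvg ρ hik v = v := by
  rw [torAvg]
  simp only [h, Finset.sum_const, Finset.card_univ]
  rw [← Nat.cast_smul_eq_nsmul ℂ, smul_smul,
    inv_mul_cancel₀ (Nat.cast_ne_zero.2 Fintype.card_ne_zero), one_smul]

theorem pair_torAvg (v w : Fin N → ℂ) : pair ρ (torAvg ρ hik v) w = pair ρ v (torAvg ρ hik w) := by
  rw [torAvg, torAvg, pair_smul_left, pair_smul_right, pair_sum_left, pair_sum_right, map_inv₀,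
    map_natCast]
  congr 1
  refine Fintype.sum_equiv (Equiv.inv Kˣ) _ _ fun t => ?_
  rw [pair_apply_left, he_inv hik t.ne_zero]
  simp

theorem avg_torAvg {v : Fin N → ℂ} (hv : avg ρ U v = v) :
    avg ρ U (torAvg ρ hik v) = torAvg ρ hik v := by
  rw [torAvg, map_smul, map_sum]
  simp only [avg_comm_diag ρ (isMono_he hik (Units.ne_zero _)), hv]

/-- The rank one operator. -/
noncomputable def opE (v : Fin N → ℂ) : Fin N → ℂ := avg ρ U (ρ (we hik (1 : K)) v)

theorem torAvg_opE (v : Fin N → ℂ) :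
    torAvg ρ hik (opE ρ hik v) = opE ρ hik (torAvg ρ hik v) := by
  rw [torAvg, torAvg, opE, opE, map_smul, map_smul, map_sum, map_sum]
  congr 1
  refine Fintype.sum_equiv (Equiv.inv Kˣ) _ _ fun t => ?_
  simp only [Equiv.inv_apply, Units.val_inv_eq_inv_val]
  rw [← avg_comm_diag ρ (isMono_he hik t.ne_zero), ← apply_mul, ← apply_mul]
  congr 2
  rw [← we_conj_he hik t.ne_zero]
  group

variable (hk : (k : ℕ) = i + 1)
include hk

/-- The quadratic relation. -/
theorem card_smul_back {v : Fin N → ℂ} (hv : avg ρ U v = v) :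
    (q : ℂ) • avg ρ U (ρ (we hik (1 : K))⁻¹ (opE ρ hik v)) =
      v + (Fintype.card Kˣ : ℂ) • torAvg ρ hik (opE ρ hik v) := by
  classical
  set φ : K → (Fin N → ℂ) := fun c => avg ρ U (ρ (ye hik (-c)) v) with hφ
  have hterm : ∀ x : U, avg ρ U (ρ (we hik (1 : K))⁻¹ (ρ (x : SpecialLinearGroup (Fin n) K)
      (ρ (we hik (1 : K)) v))) = φ (⇈(x : SpecialLinearGroup (Fin n) K) i k) := by
    intro x
    set c := ⇈(x : SpecialLinearGroup (Fin n) K) i k
    have hr : (x : SpecialLinearGroup (Fin n) K) * xe hik (-c) ∈ U := mul_mem x.2 (xe_mem hik _)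
    have h0 : ⇈((x : SpecialLinearGroup (Fin n) K) * xe hik (-c)) i k = 0 := by
      rw [mul_xe_apply hik x.2, add_neg_cancel]
    rw [← apply_mul, ← apply_mul, hφ]
    have e : (we hik (1 : K))⁻¹ * (x : SpecialLinearGroup (Fin n) K) * we hik 1 =
        ((we hik (1 : K))⁻¹ * ((x : SpecialLinearGroup (Fin n) K) * xe hik (-c)) * we hik 1) *
          ye hik (-c) := by
      rw [← we_conj_xe hik c, ← xe_inv]
      group
    rw [e, apply_mul, avg_apply_mem ρ U (we_conj_mem hik hk hr h0)]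
  have hsum : (q : ℂ) • ∑ x : U, φ (⇈(x : SpecialLinearGroup (Fin n) K) i k) =
      (Fintype.card U : ℂ) • ∑ c, φ c := by
    have h1 : ∀ d : K, ∑ x : U, φ (⇈(x : SpecialLinearGroup (Fin n) K) i k) =
        ∑ x : U, φ (⇈(x : SpecialLinearGroup (Fin n) K) i k + d) := fun d => by
      refine (Fintype.sum_equiv (Equiv.mulRight ⟨xe hik d, xe_mem hik d⟩) _ _ fun x => ?_).symm
      simp only [Equiv.coe_mulRight, Subgroup.coe_mul, mul_xe_apply hik x.2]
    rw [Nat.cast_smul_eq_nsmul, Nat.cast_smul_eq_nsmul, ← Finset.card_univ, ← Finset.sum_const,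
      Finset.sum_congr rfl fun d _ => h1 d, Finset.sum_comm]
    refine (Finset.sum_congr rfl fun (x : U) _ => Fintype.sum_equiv
      (Equiv.addLeft (⇈(x : SpecialLinearGroup (Fin n) K) i k)) _ φ fun _ => rfl).trans ?_
    rw [Finset.sum_const, Finset.card_univ]
  have h2 : avg ρ U (ρ (we hik (1 : K))⁻¹ (opE ρ hik v)) =
      (Fintype.card U : ℂ)⁻¹ • ∑ x : U, φ (⇈(x : SpecialLinearGroup (Fin n) K) i k) := by
    rw [opE, avg_apply ρ U (ρ (we hik (1 : K)) v), map_smul, map_smul, map_sum, map_sum]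
    simp only [hterm]
  rw [h2, smul_comm, hsum, smul_smul, inv_mul_cancel₀ (Nat.cast_ne_zero.2 Fintype.card_ne_zero),
    one_smul]
  have hu : ∀ t : Kˣ, φ ((t⁻¹ : Kˣ) : K) = ρ (he hik (t : K)) (opE ρ hik v) := by
    intro t
    rw [hφ]
    have e1 : ye hik (-((t⁻¹ : Kˣ) : K)) = xe hik (-(t : K)) * (he hik (t : K) * we hik 1) *
        xe hik (-(t : K)) := by
      rw [he_mul_we, ye_eq]
      simp [Units.val_inv_eq_inv_val]
    simp only
    rw [e1, apply_mul, apply_mul, avg_apply_mem ρ U (xe_mem hik _),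
      apply_of_fixed ρ U (xe_mem hik _) hv, apply_mul, avg_comm_diag ρ (isMono_he hik t.ne_zero)]
    rfl
  have h0 : φ 0 = v := by simp [hφ, ye_zero, hv]
  rw [Fintype.sum_eq_add_sum_compl (0 : K) φ, h0, torAvg, smul_smul,
    mul_inv_cancel₀ (Nat.cast_ne_zero.2 Fintype.card_ne_zero), one_smul]
  congr 1
  refine Finset.sum_bij' (fun c hc => (Units.mk0 c (by simpa using hc))⁻¹)
    (fun t _ => ((t⁻¹ : Kˣ) : K)) (fun c hc => Finset.mem_univ _) (fun t _ => by simp)
    (fun c hc => by simp) (fun t _ => Units.ext (by simp)) fun c hc => ?_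
  rw [← hu]
  simp

theorem card_mul_sq_opE {v : Fin N → ℂ} (hv : avg ρ U v = v) :
    (q : ℝ) * sq ρ (opE ρ hik v) =
      sq ρ v + (Fintype.card Kˣ : ℝ) * (pair ρ v (torAvg ρ hik (opE ρ hik v))).re := by
  have h : pair ρ (opE ρ hik v) (opE ρ hik v) =
      pair ρ v (avg ρ U (ρ (we hik (1 : K))⁻¹ (opE ρ hik v))) := by
    conv_rhs => rw [← pair_avg, hv, ← pair_apply_left]
    conv_lhs => arg 2; rw [opE]
    rw [pair_avg, show avg ρ U (opE ρ hik v) = opE ρ hik v from avg_avg ρ U _]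
  have h1 : (q : ℂ) * pair ρ (opE ρ hik v) (opE ρ hik v) =
      pair ρ v v + (Fintype.card Kˣ : ℂ) * pair ρ v (torAvg ρ hik (opE ρ hik v)) := by
    rw [h, ← pair_smul_right, card_smul_back ρ hik hk hv, pair_add_right, pair_smul_right]
  have h2 := congrArg Complex.re h1
  simp only [Complex.add_re, Complex.mul_re, Complex.natCast_re, Complex.natCast_im, zero_mul,
    sub_zero] at h2
  exact h2

/-- The rank one bound, with its case of equality. -/
theorem rank_one {v : Fin N → ℂ} (hv : avg ρ U v = v) :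
    sq ρ v ≤ (q : ℝ) ^ 2 * sq ρ (opE ρ hik v) ∧
      ((q : ℝ) ^ 2 * sq ρ (opE ρ hik v) = sq ρ v →
        (∀ t : Kˣ, ρ (he hik (t : K)) v = v) ∧ opE ρ hik v = (-(q : ℂ)⁻¹) • v) := by
  set z := torAvg ρ hik v with hz
  have hzt : ∀ t : Kˣ, ρ (he hik (t : K)) z = z := torAvg_apply ρ hik v
  have hPz : torAvg ρ hik z = z := torAvg_of_fixed ρ hik hzt
  have hzU : avg ρ U z = z := avg_torAvg ρ hik hv
  have hPE : torAvg ρ hik (opE ρ hik z) = opE ρ hik z := by rw [torAvg_opE, hPz]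
  have hr : pair ρ v (torAvg ρ hik (opE ρ hik v)) = pair ρ z (opE ρ hik z) := by
    rw [torAvg_opE, ← hz, ← hPE, ← pair_torAvg, ← hz, hPE]
  have h1 := card_mul_sq_opE ρ hik hk hv
  have h2 := card_mul_sq_opE ρ hik hk hzU
  rw [hr] at h1
  rw [hPE] at h2
  set r := (pair ρ z (opE ρ hik z)).re
  have hcard : (Fintype.card Kˣ : ℝ) = (q : ℝ) - 1 := by
    rw [Fintype.card_units, Nat.cast_sub Fintype.card_pos, Nat.cast_one]
  rw [hcard] at h1 h2
  have hvz : (pair ρ (v - z) z).re = 0 := by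
    have e : pair ρ v z = pair ρ z z := by
      conv_lhs => rw [← hPz, ← pair_torAvg, ← hz]
    have e2 : pair ρ (v - z) z + pair ρ z z = pair ρ v z := by rw [← pair_add_left, sub_add_cancel]
    rw [e, add_eq_right] at e2
    rw [e2, Complex.zero_re]
  have hpy : sq ρ v = sq ρ (v - z) + sq ρ z := by
    have := sq_add ρ (v - z) z
    rw [sub_add_cancel, hvz] at this
    linarith
  set a : ℂ := (q : ℂ)⁻¹ with ha
  have hsq : sq ρ (opE ρ hik z + a • z) =
      sq ρ (opE ρ hik z) + 2 * ((q : ℝ)⁻¹ * r) + (q : ℝ)⁻¹ ^ 2 * sq ρ z := by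
    have hac : a = (((q : ℝ)⁻¹ : ℝ) : ℂ) := by rw [ha, Complex.ofReal_inv, Complex.ofReal_natCast]
    rw [sq_add, pair_smul_right, hac, Complex.re_ofReal_mul, re_pair_comm ρ (opE ρ hik z) z]
    congr 1
    rw [sq, pair_smul_left, pair_smul_right, Complex.conj_ofReal, Complex.re_ofReal_mul,
      Complex.re_ofReal_mul, sq]
    ring
  have hq1 : (1 : ℝ) < q := by exact_mod_cast Fintype.one_lt_card
  have hq0 : (q : ℝ) ≠ 0 := by linarith
  have hs2 : (q : ℝ) ^ 2 * sq ρ (opE ρ hik z + a • z) = ((q : ℝ) + 1) * (sq ρ z + (q : ℝ) * r) := by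
    rw [hsq]
    field_simp
    linear_combination (q : ℝ) * h2
  have key : (q : ℝ) ^ 2 * sq ρ (opE ρ hik v) - sq ρ v =
      ((q : ℝ) - 1) * sq ρ (v - z) +
        ((q : ℝ) - 1) / ((q : ℝ) + 1) * ((q : ℝ) ^ 2 * sq ρ (opE ρ hik z + a • z)) := by
    rw [hs2, ← mul_assoc, div_mul_cancel₀ _ (by linarith : (q : ℝ) + 1 ≠ 0)]
    linear_combination (q : ℝ) * h1 + ((q : ℝ) - 1) * hpy
  have hpos : 0 ≤ ((q : ℝ) - 1) * sq ρ (v - z) := mul_nonneg (by linarith) (sq_nonneg' ρ _)
  have hpos' : 0 ≤ ((q : ℝ) - 1) / ((q : ℝ) + 1) * ((q : ℝ) ^ 2 * sq ρ (opE ρ hik z + a • z)) :=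
    mul_nonneg (div_nonneg (by linarith) (by linarith)) (mul_nonneg (by positivity) (sq_nonneg' ρ _))
  refine ⟨by linarith, fun heq => ?_⟩
  have hA : ((q : ℝ) - 1) * sq ρ (v - z) = 0 := by linarith
  have hB : ((q : ℝ) - 1) / ((q : ℝ) + 1) * ((q : ℝ) ^ 2 * sq ρ (opE ρ hik z + a • z)) = 0 := by
    linarith
  have hvz' : v = z := sub_eq_zero.1 (eq_zero_of_sq ρ
    ((mul_eq_zero.1 hA).resolve_left (by linarith)))
  have hEz := eq_zero_of_sq ρ ((mul_eq_zero.1 ((mul_eq_zero.1 hB).resolve_left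
    (div_ne_zero (by linarith) (by linarith)))).resolve_left (pow_ne_zero _ hq0))
  refine ⟨fun t => by rw [hvz']; exact hzt t, ?_⟩
  rw [hvz', neg_smul]
  exact eq_neg_of_add_eq_zero_left hEz

/-- Splitting off the last simple factor. -/
theorem avg_mul_we {σ : Equiv.Perm (Fin n)} {m : SpecialLinearGroup (Fin n) K}
    (hm : IsMono σ m) (hσ : σ i < σ k) {v : Fin N → ℂ} (hv : avg ρ U v = v) :
    avg ρ U (ρ (m * we hik 1) v) = avg ρ U (ρ m (opE ρ hik v)) := by
  have hterm : ∀ x : U, avg ρ U (ρ m (ρ (x : SpecialLinearGroup (Fin n) K) (ρ (we hik (1 : K)) v))) =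
      avg ρ U (ρ (m * we hik 1) v) := by
    intro x
    set c := ⇈(x : SpecialLinearGroup (Fin n) K) i k
    set r := xe hik (-c) * (x : SpecialLinearGroup (Fin n) K) with hr
    have hrU : r ∈ U := mul_mem (xe_mem hik _) x.2
    have h0 : ⇈r i k = 0 := by
      rw [hr, xe, tv_mul_apply, if_pos rfl, (mem_unitri.1 x.2).2]
      simp [c]
    rw [← apply_mul, ← apply_mul]
    have e : m * (x : SpecialLinearGroup (Fin n) K) * we hik 1 =
        (m * xe hik c * m⁻¹) * (m * we hik 1) * ((we hik (1 : K))⁻¹ * r * we hik 1) := by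
      rw [hr, ← xe_inv]
      group
    rw [e, apply_mul, apply_mul, avg_apply_mem ρ U (hm.conj_xe_mem hik hσ c),
      apply_of_fixed ρ U (we_conj_mem hik hk hrU h0) hv]
  rw [opE, avg_apply ρ U (ρ (we hik (1 : K)) v), map_smul, map_smul, map_sum, map_sum,
    Finset.sum_congr rfl fun x _ => hterm x, Finset.sum_const, Finset.card_univ,
    ← Nat.cast_smul_eq_nsmul ℂ, smul_smul,
    inv_mul_cancel₀ (Nat.cast_ne_zero.2 Fintype.card_ne_zero), one_smul]

end Pair

omit [Fintype K] [DecidableEq K] [Fintype (unitri n K)] in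
theorem exists_split {σ : Equiv.Perm (Fin n)} {m : SpecialLinearGroup (Fin n) K} (hm : IsMono σ m)
    (hσ : σ ≠ 1) : ∃ (i k : Fin n) (hik : i < k) (m' : SpecialLinearGroup (Fin n) K)
      (σ' : Equiv.Perm (Fin n)), (k : ℕ) = i + 1 ∧ IsMono σ' m' ∧ σ' i < σ' k ∧
      m = m' * we hik 1 ∧ numPairs n - asc σ = numPairs n - asc σ' + 1 := by
  obtain ⟨i, k, hk, hlt⟩ := exists_descent hσ
  have hik : i < k := Fin.lt_def.2 (by omega)
  refine ⟨i, k, hik, m * (we hik (1 : K))⁻¹, σ * Equiv.swap i k, hk, ?_, ?_,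
    (inv_mul_cancel_right _ _).symm, ?_⟩
  · simpa [Equiv.swap_inv] using hm.mul (isMono_we hik (1 : K) one_ne_zero).inv
  · simpa using hlt
  · have h1 := asc_mul_swap hk hlt
    have h2 := asc_le (σ * Equiv.swap i k)
    omega

/-- Every double coset operator is bounded below. -/
theorem sq_bound : ∀ (d : ℕ) (σ : Equiv.Perm (Fin n)) (m : SpecialLinearGroup (Fin n) K),
    IsMono σ m → numPairs n - asc σ = d → ∀ v, avg ρ U v = v →
      sq ρ v ≤ ((q : ℝ) ^ 2) ^ d * sq ρ (avg ρ U (ρ m v)) := by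
  intro d
  induction d with
  | zero =>
    intro σ m hm hd v hv
    by_cases hσ : σ = 1
    · subst hσ
      rw [avg_comm_diag ρ hm, hv, sq_apply, pow_zero, one_mul]
    · obtain ⟨i, k, hik, m', σ', -, -, -, -, h5⟩ := exists_split hm hσ
      omega
  | succ d ih =>
    intro σ m hm hd v hv
    by_cases hσ : σ = 1
    · rw [hσ, asc_one] at hd
      omega
    obtain ⟨i, k, hik, m', σ', hk, hm', hlt, rfl, h5⟩ := exists_split hm hσ
    rw [avg_mul_we ρ hik hk hm' hlt hv]
    have h1 := ih σ' m' hm' (by omega) _ (avg_avg ρ U (ρ (we hik (1 : K)) v))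
    have h2 := (rank_one ρ hik hk hv).1
    refine h2.trans ?_
    rw [pow_succ ((q : ℝ) ^ 2) d, mul_comm (((q : ℝ) ^ 2) ^ d), mul_assoc]
    exact mul_le_mul_of_nonneg_left h1 (by positivity)

end Cfsg.Agent.SLSteinberg
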