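import Mathlib
import Cfsg.Agent.SLSteinberg.Hecke
import Cfsg.Agent.Char.Ortho
import Cfsg.Agent.Char.ClassAlg
import Cfsg.Agent.Char.Gen

/-!
At most one irreducible character of SL_n vanishes at the nontrivial upper unitriangular elements.
-/

set_option autoImplicit false

namespace Cfsg.Agent.SLSteinberg

open Matrix Cfsg.Agent.UniTri
open scoped ComplexConjugate

universe u

variable {n : ℕ} {K : Type u} [Field K] [Fintype K] [DecidableEq K] [Fintype (unitri n K)]

/-- The underlying matrix. -/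
local notation:max "⇈" A:max => ((A : SpecialLinearGroup (Fin n) K) : Matrix (Fin n) (Fin n) K)

local notation "U" => unitri n K

local notation "q" => Fintype.card K

section Rep

variable {N : ℕ} (ρ : Representation ℂ (SpecialLinearGroup (Fin n) K) (Fin N → ℂ))
  (hρ : ρ.IsIrreducible) (hvan : ∀ x : ↥(unitri n K), x ≠ 1 → ρ.character (x : SpecialLinearGroup (Fin n) K) = 0)
include hρ hvan

theorem trace_avg :
    LinearMap.trace ℂ _ (avg ρ U) = (Fintype.card U : ℂ)⁻¹ * ρ.character 1 := by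
  rw [avg, map_smul, map_sum, smul_eq_mul]
  congr 1
  exact Fintype.sum_eq_single (f := fun x : U => ρ.character (x : SpecialLinearGroup (Fin n) K)) (1 : U) hvan

theorem sum_sq (hN : N ≠ 0) (v : Fin N → ℂ) :
    ∑ g, sq ρ (avg ρ U (ρ g v)) =
      (Fintype.card (SpecialLinearGroup (Fin n) K) : ℝ) / (Fintype.card U : ℝ) * sq ρ v := by
  set T : Module.End ℂ (Fin N → ℂ) := ∑ g : SpecialLinearGroup (Fin n) K, ρ g⁻¹ * avg ρ U * ρ g with hT
  have hcomm : ∀ x, T * ρ x = ρ x * T := by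
    intro x
    rw [hT, Finset.sum_mul, Finset.mul_sum]
    refine Fintype.sum_equiv (Equiv.mulRight x) _ _ fun g => ?_
    simp only [Equiv.coe_mulRight, _root_.mul_inv_rev, map_mul]
    simp only [← mul_assoc, ← map_mul ρ x x⁻¹, mul_inv_cancel, map_one, one_mul]
  obtain ⟨c, hc, hct⟩ := Char.commute_eq_scalar ρ hρ T hcomm
  have htr : LinearMap.trace ℂ _ T =
      (Fintype.card (SpecialLinearGroup (Fin n) K) : ℂ) * LinearMap.trace ℂ _ (avg ρ U) := by
    rw [hT, map_sum]
    have h1 : ∀ g, LinearMap.trace ℂ _ (ρ g⁻¹ * avg ρ U * ρ g) = LinearMap.trace ℂ _ (avg ρ U) := by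
      intro g
      rw [mul_assoc, LinearMap.trace_mul_comm, mul_assoc, ← map_mul, mul_inv_cancel, map_one, mul_one]
    simp only [h1, Finset.sum_const, Finset.card_univ, nsmul_eq_mul]
  rw [htr, trace_avg ρ hρ hvan, Representation.char_one, ← mul_assoc,
    mul_left_inj' (by rw [Module.finrank_fin_fun]; exact_mod_cast hN)] at hct
  have h2 : ∑ g, pair ρ (avg ρ U (ρ g v)) (avg ρ U (ρ g v)) = pair ρ v (T v) := by
    rw [hT, LinearMap.sum_apply, pair_sum_right]
    refine Finset.sum_congr rfl fun g _ => ?_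
    rw [pair_avg, avg_avg, pair_apply_left]
    rfl
  rw [hc, LinearMap.smul_apply, LinearMap.id_apply, pair_smul_right, hct] at h2
  have h3 := congrArg Complex.re h2
  rw [Complex.re_sum, show (Fintype.card (SpecialLinearGroup (Fin n) K) : ℂ) * (Fintype.card U : ℂ)⁻¹ =
    (((Fintype.card (SpecialLinearGroup (Fin n) K) : ℝ) / (Fintype.card U : ℝ) : ℝ) : ℂ) by
      push_cast; rw [div_eq_mul_inv], Complex.re_ofReal_mul] at h3
  exact h3

theorem sq_eq (hN : N ≠ 0) {v : Fin N → ℂ} (hv : avg ρ U v = v) (m : Mono n K) :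
    ((q : ℝ) ^ 2) ^ (numPairs n - asc m.1.1) * sq ρ (avg ρ U (ρ m.1.2 v)) = sq ρ v := by
  classical
  have := Fintype.ofFinite (Mono n K)
  have hq : (q : ℝ) ≠ 0 := Nat.cast_ne_zero.2 Fintype.card_ne_zero
  have hU : (Fintype.card U : ℝ) = (q : ℝ) ^ numPairs n := by
    rw [← Nat.card_eq_fintype_card, card_unitri, Nat.cast_pow, Nat.card_eq_fintype_card]
  have hG : (Fintype.card (SpecialLinearGroup (Fin n) K) : ℝ) =
      (q : ℝ) ^ numPairs n * ∑ m : Mono n K, (q : ℝ) ^ asc m.1.1 := by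
    rw [← Nat.card_eq_fintype_card, sum_pow_asc, Nat.card_eq_fintype_card]
  have h := sum_sq ρ hρ hvan hN v
  rw [sum_cells] at h
  have hcell : ∀ (m : Mono n K) (a b : U), sq ρ (avg ρ U (ρ (a * m.1.2 * b) v)) =
      sq ρ (avg ρ U (ρ m.1.2 v)) := by
    intro m a b
    rw [apply_mul, apply_mul, avg_apply_mem ρ U a.2, apply_of_fixed ρ U b.2 hv]
  simp only [hcell, Finset.sum_const, Finset.card_univ, nsmul_eq_mul] at h
  rw [hG, hU, mul_div_cancel_left₀ _ (pow_ne_zero _ hq), Finset.sum_mul] at h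
  have hid : ∀ m : Mono n K, ((q : ℝ) ^ asc m.1.1)⁻¹ * ((q : ℝ) ^ numPairs n * ((q : ℝ) ^ numPairs n *
      sq ρ (avg ρ U (ρ m.1.2 v)))) =
      (q : ℝ) ^ asc m.1.1 * (((q : ℝ) ^ 2) ^ (numPairs n - asc m.1.1) * sq ρ (avg ρ U (ρ m.1.2 v))) := by
    intro m
    rw [inv_mul_eq_iff_eq_mul₀ (pow_ne_zero _ hq)]
    have e : (q : ℝ) ^ numPairs n = (q : ℝ) ^ asc m.1.1 * (q : ℝ) ^ (numPairs n - asc m.1.1) := by
      rw [← pow_add, Nat.add_sub_cancel' (asc_le _)]
    rw [e, pow_right_comm]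
    ring
  simp only [hid] at h
  have hle : ∀ m ∈ (Finset.univ : Finset (Mono n K)), (q : ℝ) ^ asc m.1.1 * sq ρ v ≤
      (q : ℝ) ^ asc m.1.1 * (((q : ℝ) ^ 2) ^ (numPairs n - asc m.1.1) * sq ρ (avg ρ U (ρ m.1.2 v))) :=
    fun m _ => mul_le_mul_of_nonneg_left (sq_bound ρ _ _ _ m.2 rfl v hv) (by positivity)
  exact (mul_left_cancel₀ (pow_ne_zero _ hq)
    ((Finset.sum_eq_sum_iff_of_le hle).1 h.symm m (Finset.mem_univ m))).symm

theorem fixed_of_pair (hN : N ≠ 0) {v : Fin N → ℂ} (hv : avg ρ U v = v) {i k : Fin n} (hik : i < k)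
    (hk : (k : ℕ) = i + 1) :
    (∀ t : Kˣ, ρ (he hik (t : K)) v = v) ∧ opE ρ hik v = (-(q : ℂ)⁻¹) • v := by
  refine (rank_one ρ hik hk hv).2 ?_
  have h := sq_eq ρ hρ hvan hN hv ⟨(Equiv.swap i k, we hik 1), isMono_we hik (1 : K) one_ne_zero⟩
  have hd : numPairs n - asc (Equiv.swap i k) = 1 := by
    have h1 := asc_mul_swap (σ := Equiv.swap i k) hk (by simpa using hik)
    rw [Equiv.swap_mul_self, asc_one] at h1
    omega
  simpa [hd, opE] using h

theorem diag_fixed (hN : N ≠ 0) {v : Fin N → ℂ} (hv : avg ρ U v = v) :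
    ∀ (j : ℕ) (t : SpecialLinearGroup (Fin n) K), IsMono 1 t →
      (∀ l : Fin n, (l : ℕ) + j < n → ⇈t l l = 1) → ρ t v = v := by
  intro j
  induction j with
  | zero =>
    intro t ht h
    rw [eq_of_diag ht isMono_one (fun l => by rw [h l (by omega)]; exact Matrix.one_apply_eq l |>.symm),
      map_one, Module.End.one_apply]
  | succ j ih =>
    intro t ht h
    by_cases hj : n < j + 1
    · exact ih t ht fun l hl => h l (by omega)
    let i : Fin n := ⟨n - (j + 1), by omega⟩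
    by_cases hj0 : j = 0
    · refine ih t ht fun l hl => ?_
      rcases eq_or_ne l i with rfl | hl'
      · have hd := t.prop
        rw [Matrix.det_of_isUpperTriangular (fun a b hab => ht a b (ne_of_gt hab)),
          Finset.prod_eq_single i (fun b _ hb => h b (by
            simp only [Ne, Fin.ext_iff, i] at hb
            have := b.isLt
            omega)) (by simp)] at hd
        exact hd
      · simp only [Ne, Fin.ext_iff, i] at hl'
        exact h l (by omega)
    let k : Fin n := ⟨n - (j + 1) + 1, by omega⟩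
    have hik : i < k := Fin.lt_def.2 (Nat.lt_succ_self _)
    have hti : ⇈t i i ≠ 0 := ht.apply_ne_zero i
    have hfix := (fixed_of_pair ρ hρ hvan hN hv hik rfl).1 (Units.mk0 _ hti)
    rw [Units.val_mk0] at hfix
    set h' := he hik (⇈t i i)
    have hm : IsMono 1 h' := isMono_he hik hti
    have hm' : IsMono 1 (t * h'⁻¹) := by simpa using ht.mul hm.inv
    have hrest : ρ (t * h'⁻¹) v = v := ih _ hm' fun l hl => by
      have hinv : h'⁻¹ = he hik (⇈t i i)⁻¹ := he_inv hik hti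
      rw [hinv, diag_mul (isMono_he hik (inv_ne_zero hti)), he_apply hik (inv_ne_zero hti)]
      have hlk : l ≠ k := fun e => by simp only [e, k] at hl; omega
      rcases eq_or_ne l i with rfl | hli
      · rw [if_pos rfl, mul_inv_cancel₀ hti]
      · rw [if_neg hli, if_neg hlk, mul_one]
        simp only [Ne, Fin.ext_iff, i] at hli
        exact h l (by omega)
    calc ρ t v = ρ (t * h'⁻¹) (ρ h' v) := by rw [← apply_mul, inv_mul_cancel_right]
      _ = v := by rw [hfix, hrest]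

theorem avg_mono (hN : N ≠ 0) : ∀ (d : ℕ) (σ : Equiv.Perm (Fin n)) (m : SpecialLinearGroup (Fin n) K),
    IsMono σ m → numPairs n - asc σ = d → ∀ v, avg ρ U v = v →
      avg ρ U (ρ m v) = ((-(q : ℂ)⁻¹) ^ d) • v := by
  intro d
  induction d with
  | zero =>
    intro σ m hm hd v hv
    by_cases hσ : σ = 1
    · subst hσ
      rw [diag_fixed ρ hρ hvan hN hv n m hm (fun l hl => absurd hl (by omega)), hv, pow_zero, one_smul]
    · obtain ⟨i, k, hik, m', σ', -, -, -, -, h5⟩ := exists_split hm hσ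
      omega
  | succ d ih =>
    intro σ m hm hd v hv
    by_cases hσ : σ = 1
    · rw [hσ, asc_one] at hd
      omega
    obtain ⟨i, k, hik, m', σ', hk, hm', hlt, rfl, h5⟩ := exists_split hm hσ
    rw [avg_mul_we ρ hik hk hm' hlt hv, (fixed_of_pair ρ hρ hvan hN hv hik hk).2, map_smul, map_smul,
      ih σ' m' hm' (by omega) v hv, smul_smul, pow_succ']

theorem sum_char (hN : N ≠ 0) (g : SpecialLinearGroup (Fin n) K) :
    ∃ d : ℕ, ∀ (a b : U) (m : Mono n K), g = a * m.1.2 * b →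
      numPairs n - asc m.1.1 = d ∧
        ∑ x : U, ρ.character (g * x) = (-(q : ℂ)⁻¹) ^ d * ρ.character 1 := by
  obtain ⟨a, ha, m, b, hb, rfl⟩ := exists_cell g
  refine ⟨numPairs n - asc m.1.1, fun a' b' m' e => ?_⟩
  have hmm : m = m' := Mono.ext (m.2.eq_of_mul_eq m'.2 (mul_mem (inv_mem a'.2) ha)
    (mul_mem b'.2 (inv_mem hb)) (by
      rw [mul_assoc, inv_mul_eq_iff_eq_mul, ← mul_assoc, ← mul_assoc, eq_mul_inv_iff_mul_eq]
      exact e))
  refine ⟨by rw [hmm], ?_⟩
  have hop : avg ρ U * ρ m.1.2 * avg ρ U = ((-(q : ℂ)⁻¹) ^ (numPairs n - asc m.1.1)) • avg ρ U := by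
    refine LinearMap.ext fun v => ?_
    exact avg_mono ρ hρ hvan hN _ _ _ m.2 rfl _ (avg_avg ρ U v)
  have hee : avg ρ U * avg ρ U = avg ρ U := LinearMap.ext (avg_avg ρ U)
  have hbe : ρ b * avg ρ U = avg ρ U := LinearMap.ext fun v => apply_avg_mem ρ U hb v
  have hea : avg ρ U * ρ a = avg ρ U := LinearMap.ext fun v => avg_apply_mem ρ U ha v
  have h1 : ∑ x : U, ρ.character (a * m.1.2 * b * x) =
      (Fintype.card U : ℂ) * LinearMap.trace ℂ _ (ρ (a * m.1.2 * b) * avg ρ U) := by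
    rw [avg, mul_smul_comm, map_smul, smul_eq_mul, ← mul_assoc,
      mul_inv_cancel₀ (Nat.cast_ne_zero.2 Fintype.card_ne_zero), one_mul, Finset.mul_sum, map_sum]
    simp only [← map_mul]
    rfl
  rw [h1, map_mul ρ, map_mul ρ, mul_assoc, hbe, mul_assoc, LinearMap.trace_mul_comm, mul_assoc, hea,
    ← hee, ← mul_assoc, LinearMap.trace_mul_comm, ← mul_assoc, hop, map_smul, trace_avg ρ hρ hvan,
    smul_eq_mul]
  field_simp

end Rep

/-- Uniqueness. -/
theorem eq_of_vanish {χ ψ : SpecialLinearGroup (Fin n) K → ℂ}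
    (hχ : Cfsg.IsIrrCharacter (SpecialLinearGroup (Fin n) K) χ)
    (hψ : Cfsg.IsIrrCharacter (SpecialLinearGroup (Fin n) K) ψ)
    (h1 : ∀ x : U, x ≠ 1 → χ (x : SpecialLinearGroup (Fin n) K) = 0)
    (h2 : ∀ x : U, x ≠ 1 → ψ (x : SpecialLinearGroup (Fin n) K) = 0) : χ = ψ := by
  classical
  by_contra hne
  obtain ⟨N, ρ, hρ, rfl⟩ := hχ
  obtain ⟨N', σ, hσ, rfl⟩ := hψ
  have hN : ρ.character 1 ≠ 0 := Char.IsIrr.one_ne_zero ⟨N, ρ, hρ, rfl⟩
  have hN' : σ.character 1 ≠ 0 := Char.IsIrr.one_ne_zero ⟨N', σ, hσ, rfl⟩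
  have hN0 : N ≠ 0 := fun e => hN (by subst e; simp [Representation.char_one])
  have hN0' : N' ≠ 0 := fun e => hN' (by subst e; simp [Representation.char_one])
  have hcomp : ∀ g, ∃ r : ℝ, ∑ x : U, ρ.character (g * x) = (r : ℂ) * ρ.character 1 ∧
      ∑ x : U, σ.character (g * x) = (r : ℂ) * σ.character 1 ∧ (g = 1 → r ≠ 0) := by
    intro g
    obtain ⟨d, hd⟩ := sum_char ρ hρ h1 hN0 g
    obtain ⟨d', hd'⟩ := sum_char σ hσ h2 hN0' g
    obtain ⟨a, ha, m, b, hb, hg⟩ := exists_cell g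
    obtain ⟨e1, e2⟩ := hd ⟨a, ha⟩ ⟨b, hb⟩ m hg
    obtain ⟨e1', e2'⟩ := hd' ⟨a, ha⟩ ⟨b, hb⟩ m hg
    have hd2 : d' = d := e1'.symm.trans e1
    subst hd2
    refine ⟨(-(q : ℝ)⁻¹) ^ d', ?_, ?_, fun _ => pow_ne_zero _ (neg_ne_zero.2 (inv_ne_zero
      (Nat.cast_ne_zero.2 Fintype.card_ne_zero)))⟩
    · rw [e2]; push_cast; rfl
    · rw [e2']; push_cast; rfl
  choose r hr hr' hr1 using hcomp
  have hrU : ∀ g (x : U), r (g * x) = r g := by
    intro g x
    have h := hr (g * x)
    rw [Fintype.sum_equiv (Equiv.mulLeft x) (fun y : U => ρ.character (g * x * y))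
      (fun y : U => ρ.character (g * y)) fun y => by simp [mul_assoc], hr g] at h
    exact_mod_cast (mul_right_cancel₀ hN h).symm
  have hortho : ∀ x : SpecialLinearGroup (Fin n) K, ∑ g, conj (σ.character g) * ρ.character (g * x) = 0 := by
    intro x
    have hf : Cfsg.IsClassFunction (SpecialLinearGroup (Fin n) K) fun g => conj (σ.character g) :=
      fun g h => by simp [σ.char_conj]
    obtain ⟨c, hc, hct⟩ := Char.sum_smul_rep_eq_scalar ρ hρ hf
    have h0 := Char.classInner_irr_ne (χ := ρ.character) (ψ := σ.character)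
      ⟨N, ρ, hρ, rfl⟩ ⟨N', σ, hσ, rfl⟩ hne
    rw [Cfsg.classInner, mul_eq_zero] at h0
    have h0' := h0.resolve_left (inv_ne_zero (Nat.cast_ne_zero.2 Nat.card_pos.ne'))
    rw [Finset.sum_congr rfl fun g _ => mul_comm (conj (σ.character g)) (ρ.character g), h0',
      Module.finrank_fin_fun] at hct
    have hc0 : c = 0 := (mul_eq_zero.1 hct).resolve_right (Nat.cast_ne_zero.2 hN0)
    have h3 := congrArg (fun T => LinearMap.trace ℂ _ (T * ρ x)) hc
    simp only [hc0, zero_smul, zero_mul, map_zero, Finset.sum_mul, map_sum, smul_mul_assoc, map_smul,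
      smul_eq_mul, ← map_mul] at h3
    exact h3
  have e1 : ∑ g, conj (σ.character g) * (r g : ℂ) = 0 := by
    have h : ∑ g, conj (σ.character g) * ∑ x : U, ρ.character (g * x) = 0 := by
      simp only [Finset.mul_sum]
      rw [Finset.sum_comm]
      exact Finset.sum_eq_zero fun x _ => hortho x
    simp only [hr, ← mul_assoc, ← Finset.sum_mul] at h
    exact (mul_eq_zero.1 h).resolve_right hN
  have e2 : (Fintype.card U : ℂ) * ∑ g, conj (σ.character g) * (r g : ℂ) =
      conj (σ.character 1) * ∑ g, (r g : ℂ) * (r g : ℂ) := by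
    have hshift : ∀ x : U, ∑ g, conj (σ.character g) * (r g : ℂ) =
        ∑ g, conj (σ.character (g * x)) * (r g : ℂ) := fun x =>
      (Fintype.sum_equiv (Equiv.mulRight (x : SpecialLinearGroup (Fin n) K)) _ _ fun g => by
        simp [hrU]).symm
    rw [← nsmul_eq_mul, ← Finset.card_univ, ← Finset.sum_const,
      Finset.sum_congr rfl fun x _ => hshift x, Finset.sum_comm]
    simp only [← Finset.sum_mul, ← map_sum, hr', map_mul, Complex.conj_ofReal, Finset.mul_sum]
    exact Finset.sum_congr rfl fun g _ => by ring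
  rw [e1, mul_zero] at e2
  have h4 := (mul_eq_zero.1 e2.symm).resolve_left (by simpa using hN')
  have h5 : ∑ g, r g * r g = 0 := by exact_mod_cast h4
  exact hr1 1 rfl (mul_self_eq_zero.1
    ((Finset.sum_eq_zero_iff_of_nonneg fun g _ => mul_self_nonneg (r g)).1 h5 1 (Finset.mem_univ _)))

end Cfsg.Agent.SLSteinberg
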